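import Cfsg.Agent.Lib.CharsMore.AbCent.Central
import Cfsg.Agent.Lib.Recog.SL2Char2
import Cfsg.Agent.Lib.Classical.SL2Sylow
import Cfsg.Agent.Lib.Classical.SLGen
import Cfsg.Agent.Lib.Schur.SylowCriterion

/-!
# Abelian centralizers of involutions: the structure theorem

`G/Z(G) ≅ SL₂(2^k)`; the odd centre meets `G'` trivially by transfer, since the Sylow subgroups of
odd order of `SL₂(2^k)` are cyclic.
-/

set_option autoImplicit false
set_option linter.unusedSectionVars false

namespace CfsgLib.CharsMore.AbCent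

open Subgroup CfsgLib.Involutions

variable {G : Type*} [Group G] [Finite G]

/-- A central element of prime order `r` outside of which the Sylow `r`-subgroups are cyclic is not
a commutator. -/
theorem not_mem_commutator_of_cyclic {Q : Type*} [Group Q] [Finite Q] (π : G →* Q)
    (hπ : Function.Surjective π) (hc : π.ker ≤ center G) {r : ℕ} [hr : Fact r.Prime]
    (hcyc : ∀ R : Sylow r Q, IsCyclic (R : Subgroup Q)) {a : G} (ha : a ∈ center G)
    (hao : orderOf a = r) : a ∉ _root_.commutator G := by
  intro hmem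
  obtain ⟨R₀⟩ : Nonempty (Sylow r G) := inferInstance
  have hR : ∀ x ∈ (R₀ : Subgroup G), ∀ y ∈ (R₀ : Subgroup G), x * y = y * x := fun x hx y hy =>
    Schur.commute_of_map_cyclic π hc (hcyc (R₀.mapSurjective hπ))
      (by rw [Sylow.coe_mapSurjective]; exact mem_map_of_mem π hx)
      (by rw [Sylow.coe_mapSurjective]; exact mem_map_of_mem π hy)
  haveI : IsMulCommutative (R₀ : Subgroup G) :=
    ⟨⟨fun x y => Subtype.ext (hR x x.2 y y.2)⟩⟩
  letI : CommGroup (R₀ : Subgroup G) := { (inferInstance : Group (R₀ : Subgroup G)) with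
    mul_comm := fun x y => Subtype.ext (hR x x.2 y y.2) }
  have key : ∀ (k : ℕ) (g : G), g⁻¹ * a ^ k * g ∈ (R₀ : Subgroup G) → g⁻¹ * a ^ k * g = a ^ k :=
    fun k g _ => by
      rw [mul_assoc, ← mem_center_iff.1 (pow_mem ha k) g, inv_mul_cancel_left]
  have h1 : MonoidHom.transfer (MonoidHom.id (R₀ : Subgroup G)) a = 1 :=
    Abelianization.commutator_subset_ker _ hmem
  rw [MonoidHom.transfer_eq_pow _ a key] at h1
  have h2 : a ^ (R₀ : Subgroup G).index = 1 := congrArg Subtype.val h1
  have h3 := orderOf_dvd_of_pow_eq_one h2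
  rw [hao] at h3
  exact R₀.not_dvd_index h3

/-- **Suzuki.** A group with abelian centralizers of involutions, neither with cyclic nor with
normal Sylow `2`-subgroup, is `SL₂(2^k) × A`. -/
theorem exists_iso_prod {T : Sylow 2 G} (h : Setup T) :
    ∃ (F : Type) (_ : Field F) (_ : Fintype F) (A : Type) (_ : CommGroup A) (_ : Finite A),
      CharP F 2 ∧ Odd (Nat.card A) ∧
        Nonempty (G ≃* Matrix.SpecialLinearGroup (Fin 2) F × A) := by
  classical
  have hZo : ∀ z ∈ center G, Odd (orderOf z) := fun z hz => h.center_odd hz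
  have hQ := elemAbCent_quot (center G) le_rfl hZo h (fun a ha hao => h.odd_mem_center ha hao)
  obtain ⟨k, -, hcard, ⟨e⟩⟩ := hQ.exists_iso_PSL
  have h4 : 4 ≤ Nat.card (GaloisField 2 k) := hcard ▸ hQ.four_le_card
  letI : Fintype (GaloisField 2 k) := Fintype.ofFinite _
  let π : G →* Matrix.SpecialLinearGroup (Fin 2) (GaloisField 2 k) :=
    (e.trans CfsgLib.Recog.pslEquivSL.symm).toMonoidHom.comp (QuotientGroup.mk' (center G))
  have hπ : Function.Surjective π :=
    (e.trans CfsgLib.Recog.pslEquivSL.symm).surjective.comp (QuotientGroup.mk'_surjective _)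
  have hker : π.ker = center G := by
    ext x
    rw [MonoidHom.mem_ker]
    show (e.trans CfsgLib.Recog.pslEquivSL.symm) (QuotientGroup.mk' (center G) x) = 1 ↔ _
    rw [MulEquiv.map_eq_one_iff, QuotientGroup.mk'_apply, QuotientGroup.eq_one_iff]
  have hperf := CfsgLib.Classical.SL_fin_commutator_eq_top (F := GaloisField 2 k) 2 le_rfl
    (fun _ => h4)
  -- the centre meets the commutator subgroup trivially
  have hint : ∀ x ∈ center G, x ∈ _root_.commutator G → x = 1 := by
    intro x hx hx'
    by_contra hne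
    obtain ⟨r, hr, hrd⟩ := Nat.exists_prime_and_dvd (show orderOf x ≠ 1 by rwa [ne_eq, orderOf_eq_one_iff])
    haveI := Fact.mk hr
    have hr2 : r ≠ 2 := by
      rintro rfl
      exact absurd ((hZo x hx).of_dvd_nat hrd) (by decide)
    refine not_mem_commutator_of_cyclic π hπ hker.le
      (fun R => CfsgLib.Classical.sylow_odd_SL2_isCyclic 2 hr2 hr2 R)
      (pow_mem hx (orderOf x / r)) ?_ (pow_mem hx' _)
    rw [orderOf_pow_of_dvd (Nat.div_ne_zero_iff_of_dvd hrd |>.2 ⟨(orderOf_pos x).ne', hr.ne_zero⟩)
      (Nat.div_dvd_of_dvd hrd), Nat.div_div_self hrd (orderOf_pos x).ne']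
  have hmapc : (_root_.commutator G).map π = ⊤ := by
    rw [commutator_def, Subgroup.map_commutator, Subgroup.map_top_of_surjective _ hπ,
      ← commutator_def, hperf]
  have hgen : ∀ g : G, ∃ c ∈ _root_.commutator G, c⁻¹ * g ∈ center G := by
    intro g
    obtain ⟨c, hc, he⟩ := mem_map.1 (hmapc ▸ mem_top (π g) :)
    refine ⟨c, hc, ?_⟩
    rw [← hker, MonoidHom.mem_ker, map_mul, map_inv, he, inv_mul_cancel]
  -- the product decomposition
  let ψ : G →* Matrix.SpecialLinearGroup (Fin 2) (GaloisField 2 k) × Abelianization G :=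
    π.prod Abelianization.of
  have hψ : Function.Bijective ψ := by
    refine ⟨(injective_iff_map_eq_one ψ).2 fun x hx => ?_, ?_⟩
    · refine hint x ?_ ?_
      · rw [← hker]; exact congrArg Prod.fst hx
      · exact (QuotientGroup.eq_one_iff x).1 (congrArg Prod.snd hx)
    · rintro ⟨q, a⟩
      obtain ⟨g, rfl⟩ := hπ q
      obtain ⟨g', rfl⟩ : ∃ x, Abelianization.of x = a := QuotientGroup.mk_surjective a
      obtain ⟨c, hc, hcz⟩ := hgen g
      obtain ⟨c', hc', hcz'⟩ := hgen g'
      refine ⟨c * (c'⁻¹ * g'), Prod.ext ?_ ?_⟩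
      · show π (c * (c'⁻¹ * g')) = π g
        have h1 : π (c'⁻¹ * g') = 1 := MonoidHom.mem_ker.1 (hker ▸ hcz')
        have h2 : π (c⁻¹ * g) = 1 := MonoidHom.mem_ker.1 (hker ▸ hcz)
        rw [map_mul, h1, mul_one]
        rw [map_mul, map_inv, inv_mul_eq_one] at h2
        exact h2
      · show Abelianization.of (c * (c'⁻¹ * g')) = Abelianization.of g'
        rw [map_mul, map_mul, map_inv, (show Abelianization.of c = 1 from (QuotientGroup.eq_one_iff c).2 hc),
          (show Abelianization.of c' = 1 from (QuotientGroup.eq_one_iff c').2 hc'), one_mul, inv_one, one_mul]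
  have hodd : Odd (Nat.card (Abelianization G)) := by
    have hs : Function.Surjective (Abelianization.of.comp (center G).subtype) := by
      intro a
      obtain ⟨g, rfl⟩ : ∃ x, Abelianization.of x = a := QuotientGroup.mk_surjective a
      obtain ⟨c, hc, hcz⟩ := hgen g
      refine ⟨⟨_, hcz⟩, ?_⟩
      show Abelianization.of (c⁻¹ * g) = Abelianization.of g
      rw [map_mul, map_inv, (show Abelianization.of c = 1 from (QuotientGroup.eq_one_iff c).2 hc), inv_one, one_mul]
    refine Odd.of_dvd_nat ?_ (Subgroup.card_dvd_of_surjective _ hs)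
    rw [odd_card_iff]
    intro s hs hso
    exact absurd (hso ▸ hZo s hs) (by decide)
  haveI : Finite (Abelianization G) := Finite.of_surjective (Abelianization.of (G := G)) QuotientGroup.mk_surjective
  letI : CommGroup (Shrink.{0} (Abelianization G)) := (equivShrink _).symm.commGroup
  let η : Abelianization G ≃* Shrink.{0} (Abelianization G) := (equivShrink _).symm.mulEquiv.symm
  exact ⟨GaloisField 2 k, inferInstance, inferInstance, Shrink.{0} (Abelianization G), inferInstance,
    Finite.of_equiv _ η.toEquiv, inferInstance, by rwa [← Nat.card_congr η.toEquiv],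
    ⟨(MulEquiv.ofBijective ψ hψ).trans (MulEquiv.prodCongr (MulEquiv.refl _) η)⟩⟩

end CfsgLib.CharsMore.AbCent
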