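import Cfsg.Agent.Lib.Involutions.StrongEmbCosets
import Cfsg.Agent.Lib.PGroups.UniqueOrderP

/-!
# Abelian centralizers of involutions: local structure

`T` is a noncyclic non-normal Sylow `2`-subgroup and the centralizer of every involution is
abelian. Then `C = C(T)` is the centralizer of every involution of `T`, `H = N(T)` is strongly
embedded and no involution inverts a nonidentity element of odd order of `C`.
-/

set_option autoImplicit false
set_option linter.unusedSectionVars false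

namespace CfsgLib.CharsMore.AbCent

open Subgroup CfsgLib.Involutions

variable {G : Type*} [Group G] [Finite G]

/-- The standing hypotheses. -/
structure Setup (T : Sylow 2 G) : Prop where
  nc : ¬ IsCyclic (T : Subgroup G)
  nn : ¬ (T : Subgroup G).Normal
  hC : ∀ t : G, orderOf t = 2 → IsMulCommutative (centralizer ({t} : Set G))

namespace Setup

variable {T : Sylow 2 G} (h : Setup T)
include h

local notation "𝐇" => normalizer ((T : Subgroup G) : Set G)
local notation "𝐂" => centralizer ((T : Subgroup G) : Set G)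
local notation "x₀" => ((1 : G) : G ⧸ 𝐇)

theorem comm_of_mem_centralizer {t a b : G} (ht : orderOf t = 2) (ha : Commute t a)
    (hb : Commute t b) : Commute a b := by
  haveI := h.hC t ht
  exact congrArg Subtype.val (IsMulCommutative.is_comm.comm
    (⟨a, mem_centralizer_singleton.2 ha⟩ : centralizer ({t} : Set G))
    ⟨b, mem_centralizer_singleton.2 hb⟩)

theorem ne_bot : (T : Subgroup G) ≠ ⊥ := fun hb => h.nc (by rw [hb]; infer_instance)

theorem exists_central : ∃ z ∈ T, orderOf z = 2 ∧ ∀ a ∈ T, Commute z a := by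
  haveI : Nontrivial (T : Subgroup G) := (Subgroup.nontrivial_iff_ne_bot _).2 h.ne_bot
  haveI : Fact (Nat.Prime 2) := ⟨Nat.prime_two⟩
  haveI := T.isPGroup'.center_nontrivial
  have h2 : 2 ∣ Nat.card (center (T : Subgroup G)) := by
    obtain ⟨k, hk⟩ := IsPGroup.iff_card.1 (T.isPGroup'.to_subgroup (center (T : Subgroup G)))
    rcases k with _ | k
    · exact absurd hk (Finite.one_lt_card.ne')
    · exact hk ▸ dvd_pow_self 2 k.succ_ne_zero
  obtain ⟨z, hz⟩ := exists_prime_orderOf_dvd_card' 2 h2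
  refine ⟨((z : (T : Subgroup G)) : G), (z : (T : Subgroup G)).2, ?_, fun a ha => ?_⟩
  · rw [orderOf_coe, orderOf_coe, hz]
  · exact congrArg Subtype.val (mem_center_iff.1 z.2 ⟨a, ha⟩).symm

theorem comm_of_mem {a b : G} (ha : a ∈ T) (hb : b ∈ T) : Commute a b := by
  obtain ⟨z, -, hzo, hz⟩ := h.exists_central
  exact h.comm_of_mem_centralizer hzo (hz a ha) (hz b hb)

theorem le_C : (T : Subgroup G) ≤ 𝐂 := fun a ha =>
  mem_centralizer_iff.2 fun b hb => (h.comm_of_mem hb ha).eq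

theorem centralizer_eq {t : G} (ht : orderOf t = 2) (htT : t ∈ T) :
    centralizer ({t} : Set G) = 𝐂 := by
  ext c
  constructor <;> intro hc
  · exact mem_centralizer_iff.2 fun a ha =>
      (h.comm_of_mem_centralizer ht (h.comm_of_mem htT ha) (mem_centralizer_singleton.1 hc)).eq
  · exact mem_centralizer_singleton.2 (mem_centralizer_iff.1 hc t htT)

theorem C_comm {a b : G} (ha : a ∈ 𝐂) (hb : b ∈ 𝐂) : Commute a b := by
  obtain ⟨z, hzT, hzo, -⟩ := h.exists_central
  exact h.comm_of_mem_centralizer hzo (mem_centralizer_iff.1 ha z hzT)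
    (mem_centralizer_iff.1 hb z hzT)

theorem two_elt_mem {s : G} (hs : ∃ k, orderOf s = 2 ^ k) (hsH : s ∈ 𝐇) : s ∈ T := by
  obtain ⟨k, hk⟩ := hs
  have hp : IsPGroup 2 (zpowers s) := by
    rw [IsPGroup.iff_card]; exact ⟨k, by rw [Nat.card_zpowers, hk]⟩
  have := T.is_maximal' (IsPGroup.to_sup_of_normal_left' T.isPGroup' hp (zpowers_le.2 hsH))
    le_sup_left
  exact this.le ((le_sup_right : zpowers s ≤ (T : Subgroup G) ⊔ zpowers s) (mem_zpowers s))

theorem invol_mem {s : G} (hs : orderOf s = 2) (hsH : s ∈ 𝐇) : s ∈ T :=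
  h.two_elt_mem ⟨1, by rw [hs, pow_one]⟩ hsH

theorem C_le_H : 𝐂 ≤ 𝐇 := centralizer_le_normalizer _

theorem conj_mem_C {g c : G} (hg : g ∈ 𝐇) (hc : c ∈ 𝐂) : g * c * g⁻¹ ∈ 𝐂 := by
  refine mem_centralizer_iff.2 fun a ha => ?_
  have h1 := mem_centralizer_iff.1 hc _
    (show g⁻¹ * a * g ∈ (T : Subgroup G) by
      have e := (mem_normalizer_iff.1 (inv_mem hg) a).1 ha
      rwa [inv_inv] at e)
  calc a * (g * c * g⁻¹) = g * (g⁻¹ * a * g * c) * g⁻¹ := by group
    _ = g * c * g⁻¹ * a := by rw [h1]; group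

theorem mem_H_of_conj {t g : G} (ht : orderOf t = 2) (htT : t ∈ T) (hg : g * t * g⁻¹ ∈ T) :
    g ∈ 𝐇 := by
  rw [mem_normalizer_iff_map_conj_eq]
  refine Subgroup.eq_of_le_of_card_ge ?_
    (Nat.card_congr (equivMapOfInjective _ _ (MulAut.conj g).injective).toEquiv).le
  rintro _ ⟨a, ha, rfl⟩
  have hgt : orderOf (g * t * g⁻¹) = 2 := conj_invol g ht
  have hc : g * a * g⁻¹ ∈ 𝐂 := by
    rw [← h.centralizer_eq hgt hg]
    exact mem_centralizer_singleton.2 ((h.comm_of_mem htT ha).map (MulAut.conj g))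
  refine h.two_elt_mem ?_ (h.C_le_H hc)
  obtain ⟨k, hk⟩ := IsPGroup.iff_orderOf.1 T.isPGroup' ⟨a, ha⟩
  exact ⟨k, (orderOf_conj_eq g a).trans (by rw [← hk, orderOf_mk])⟩

theorem stronglyEmbedded : Cfsg.IsStronglyEmbedded 𝐇 := by
  refine ⟨fun ht => h.nn (normalizer_eq_top_iff.1 ht), ?_, fun g hg => ?_⟩
  · obtain ⟨z, hzT, hzo, -⟩ := h.exists_central
    exact (even_card_iff _).2 ⟨z, le_normalizer hzT, hzo⟩
  · rw [odd_card_iff]
    intro s hs hso
    apply hg
    have ho : orderOf (g⁻¹ * s * g) = 2 := by simpa [hso] using orderOf_conj_eq g⁻¹ s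
    refine h.mem_H_of_conj ho (h.invol_mem ho (mem_conj_map.1 hs.2)) ?_
    rw [show g * (g⁻¹ * s * g) * g⁻¹ = s by group]
    exact h.invol_mem hso hs.1

/-- An element of `C` is a product of a `2`-element of `T` and an element of odd order of `C`. -/
theorem exists_decomp {c : G} (hc : c ∈ 𝐂) :
    ∃ τ ∈ T, ∃ a ∈ 𝐂, Odd (orderOf a) ∧ τ * a = c := by
  obtain ⟨k, m, hm, he⟩ := Nat.exists_eq_pow_mul_and_not_dvd (orderOf_pos c).ne' 2 (by norm_num)
  obtain ⟨r, s, hrs⟩ : IsCoprime ((2 ^ k : ℕ) : ℤ) (m : ℤ) :=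
    Int.isCoprime_iff_gcd_eq_one.2 ((Nat.prime_two.coprime_iff_not_dvd.2 hm).pow_left k)
  refine ⟨(c ^ m) ^ s, ?_, (c ^ 2 ^ k) ^ r, zpow_mem (pow_mem hc _) _, ?_, ?_⟩
  · refine zpow_mem (h.two_elt_mem ⟨k, ?_⟩ (pow_mem (h.C_le_H hc) m)) s
    rw [orderOf_pow_of_dvd (by rintro rfl; simp at hm) (by rw [he]; exact dvd_mul_left m _), he,
      Nat.mul_div_cancel _ (Nat.pos_of_ne_zero (by rintro rfl; simp at hm))]
  · refine Odd.of_dvd_nat (n := m) ?_ ?_
    · exact Nat.odd_iff.2 (by omega)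
    · refine orderOf_dvd_of_pow_eq_one ?_
      rw [← zpow_natCast, ← zpow_mul, mul_comm, zpow_mul, zpow_natCast, ← pow_mul, ← he,
        pow_orderOf_eq_one, one_zpow]
  · rw [← zpow_natCast c m, ← zpow_natCast c (2 ^ k), ← zpow_mul, ← zpow_mul, ← zpow_add,
      show (m : ℤ) * s + ((2 ^ k : ℕ) : ℤ) * r = 1 by rw [← hrs]; ring, zpow_one]

omit h [Finite G] in
theorem odd_conj {a : G} (ha : Odd (orderOf a)) (g : G) : Odd (orderOf (g * a * g⁻¹)) := by
  rwa [orderOf_conj_eq]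

theorem not_mem_T_of_odd {a : G} (ha : Odd (orderOf a)) (hT : a ∈ T) : a = 1 := by
  obtain ⟨k, hk⟩ := IsPGroup.iff_orderOf.1 T.isPGroup' ⟨a, hT⟩
  rw [orderOf_mk] at hk
  rcases k with _ | k
  · rwa [pow_zero, orderOf_eq_one_iff] at hk
  · rw [hk, pow_succ, Nat.odd_mul] at ha
    exact absurd ha.2 (by decide)

/-- No involution inverts a nonidentity element of odd order of `C`. -/
theorem not_inverted {a u : G} (ha : a ∈ 𝐂) (hao : Odd (orderOf a)) (hu : orderOf u = 2)
    (hinv : u * a * u⁻¹ = a⁻¹) : a = 1 := by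
  haveI : Fact (Nat.Prime 2) := ⟨Nat.prime_two⟩
  have hle : (T : Subgroup G) ≤ centralizer ({a} : Set G) := fun x hx =>
    mem_centralizer_singleton.2 (mem_centralizer_iff.1 ha x hx).symm
  have hle' : ((u • T : Sylow 2 G) : Subgroup G) ≤ centralizer ({a} : Set G) := by
    intro x hx
    rw [Sylow.coe_subgroup_smul, mem_pointwise_smul_iff_inv_smul_mem, MulAut.smul_def, ← map_inv,
      MulAut.conj_apply, inv_inv] at hx
    have h1 := mem_centralizer_singleton.1 (hle hx)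
    have h2 := h1.map (MulAut.conj u)
    rw [MulAut.conj_apply, MulAut.conj_apply, hinv,
      show u * (u⁻¹ * x * u) * u⁻¹ = x by group] at h2
    exact mem_centralizer_singleton.2 (Commute.inv_left_iff.1 h2)
  obtain ⟨c, hc⟩ := MulAction.exists_smul_eq (centralizer ({a} : Set G)) (T.subtype hle)
    ((u • T).subtype hle')
  obtain ⟨g, hg⟩ : ∃ g, g = (c : G)⁻¹ * u := ⟨_, rfl⟩
  have hgH : g ∈ 𝐇 := by
    obtain ⟨z, hzT, hzo, -⟩ := h.exists_central
    refine h.mem_H_of_conj hzo hzT ?_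
    obtain ⟨y, hy⟩ : ∃ y, y = u * z * u⁻¹ := ⟨_, rfl⟩
    have hyu : y ∈ ((u • T : Sylow 2 G) : Subgroup G) := by
      rw [hy, Sylow.coe_subgroup_smul]
      exact Subgroup.smul_mem_pointwise_smul _ (MulAut.conj u) _ hzT
    have hzu : (⟨y, hle' hyu⟩ : centralizer ({a} : Set G)) ∈
        ((u • T).subtype hle' : Subgroup (centralizer ({a} : Set G))) := by
      rw [Sylow.coe_subtype, mem_subgroupOf]
      exact hyu
    rw [← hc, Sylow.coe_subgroup_smul, mem_pointwise_smul_iff_inv_smul_mem, MulAut.smul_def,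
      ← map_inv, MulAut.conj_apply, inv_inv, Sylow.coe_subtype, mem_subgroupOf] at hzu
    rw [hg, show (c : G)⁻¹ * u * z * ((c : G)⁻¹ * u)⁻¹ = (c : G)⁻¹ * y * c by rw [hy]; group]
    show (c : G)⁻¹ * y * (c : G) ∈ (T : Subgroup G)
    simpa using hzu
  have hga : g * a * g⁻¹ = a⁻¹ := by
    rw [hg]
    calc (c : G)⁻¹ * u * a * ((c : G)⁻¹ * u)⁻¹ = (c : G)⁻¹ * (u * a * u⁻¹) * c := by group
      _ = a⁻¹ := by
        rw [hinv, ← (mem_centralizer_singleton.1 c.2).inv_left.inv_right.eq]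
        group
  -- an odd power of `g` is a `2`-element of `H`
  obtain ⟨k, m, hm, he⟩ := Nat.exists_eq_pow_mul_and_not_dvd (orderOf_pos g).ne' 2 (by norm_num)
  have hgm : g ^ m ∈ T := by
    refine h.two_elt_mem ⟨k, ?_⟩ (pow_mem hgH m)
    rw [orderOf_pow_of_dvd (by rintro rfl; simp at hm) (by rw [he]; exact dvd_mul_left m _), he,
      Nat.mul_div_cancel _ (Nat.pos_of_ne_zero (by rintro rfl; simp at hm))]
  have hpow : ∀ l : ℕ, g ^ (2 * l + 1) * a * (g ^ (2 * l + 1))⁻¹ = a⁻¹ := by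
    intro l
    induction l with
    | zero => simpa using hga
    | succ l ih =>
      calc g ^ (2 * (l + 1) + 1) * a * (g ^ (2 * (l + 1) + 1))⁻¹
          = g * (g * (g ^ (2 * l + 1) * a * (g ^ (2 * l + 1))⁻¹) * g⁻¹) * g⁻¹ := by
            rw [show 2 * (l + 1) + 1 = 2 * l + 1 + 1 + 1 by ring, pow_succ', pow_succ']; group
        _ = a⁻¹ := by
            rw [ih, show g * a⁻¹ * g⁻¹ = (g * a * g⁻¹)⁻¹ by group, hga, inv_inv, hga]
  refine eq_one_of_eq_inv_of_odd ?_ hao
  rw [← hpow (m / 2), show 2 * (m / 2) + 1 = m by omega,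
    mem_centralizer_iff.1 ha _ hgm, mul_inv_cancel_right]

omit h [Finite G] in
theorem mem_H_iff {g : G} : g ∈ 𝐇 ↔ g • x₀ = x₀ := by
  rw [SE.smul_mk_eq_iff, inv_one, one_mul, mul_one]

theorem two_le_invol : 2 ≤ Nat.card {s : G // orderOf s = 2 ∧ s ∈ 𝐇} := by
  haveI : Fact (Nat.Prime 2) := ⟨Nat.prime_two⟩
  by_contra hlt
  push Not at hlt
  obtain ⟨z, hzT, hzo, -⟩ := h.exists_central
  haveI : Subsingleton {s : G // orderOf s = 2 ∧ s ∈ 𝐇} :=
    Finite.card_le_one_iff_subsingleton.1 (by omega)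
  haveI : IsMulCommutative (T : Subgroup G) :=
    ⟨⟨fun a b => Subtype.ext (h.comm_of_mem a.2 b.2)⟩⟩
  refine h.nc (PGroups.isCyclic_of_abelian_of_unique T.isPGroup' (z := (⟨z, hzT⟩ : (T : Subgroup G)))
    (fun y hy => ?_) ?_)
  · rcases eq_or_ne y 1 with rfl | hy1
    · exact one_mem _
    · have hyo : orderOf (y : G) = 2 := orderOf_eq_prime
        (by exact_mod_cast congrArg Subtype.val hy) (fun e => hy1 (Subtype.ext e))
      have e := congrArg Subtype.val (Subsingleton.elim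
        (⟨y, hyo, le_normalizer y.2⟩ : {s : G // orderOf s = 2 ∧ s ∈ 𝐇})
        ⟨z, hzo, le_normalizer hzT⟩)
      rw [show y = ⟨z, hzT⟩ from Subtype.ext e]
      exact mem_zpowers _
  · refine Subtype.ext ?_
    show z ^ 2 = 1
    rw [← hzo, pow_orderOf_eq_one]

end Setup

end CfsgLib.CharsMore.AbCent
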