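import Cfsg.Agent.Lib.Involutions.ElemAbCent

/-!
# No odd order subgroup as large as the set of involutions
-/

set_option autoImplicit false
set_option linter.unusedSectionVars false

namespace CfsgLib.CharsMore.AbCent

open Subgroup MulAction CfsgLib.Involutions

variable {G : Type*} [Group G] [Finite G] {T : Sylow 2 G} (h : ElemAbCent T)
include h

local notation "𝐇" => normalizer ((T : Subgroup G) : Set G)
local notation "x₀" => ((1 : G) : G ⧸ 𝐇)

/-- An odd order subgroup is smaller than the set of involutions. -/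
theorem odd_subgroup_lt (D : Subgroup G) (hD : Odd (Nat.card D)) :
    Nat.card D < Nat.card {s : G // orderOf s = 2} := by
  classical
  haveI := Fintype.ofFinite (G ⧸ 𝐇)
  by_contra hlt
  push Not at hlt
  have hSE := h.stronglyEmbedded
  obtain ⟨t, htT, ht, -⟩ := h.exists_central
  have hq := h.card_invol_normalizer
  have h4 := h.four_le_card
  -- every fixed point stabilizer in `D` is small
  let fib : G ⧸ 𝐇 → ℕ := fun p => Nat.card {d : D // (d : G) • x₀ = p}
  have hR : Nat.card {d : D // (d : G) • x₀ = x₀} ≤ Nat.card {s : G // orderOf s = 2 ∧ s ∈ 𝐇} := by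
    refine Nat.card_le_card_of_injective (fun d => (⟨(d.1 : G) * t * (d.1 : G)⁻¹, conj_invol _ ht,
      mul_mem (mul_mem (ElemAbCent.mem_iff_fixes.2 d.2) (le_normalizer htT))
        (inv_mem (ElemAbCent.mem_iff_fixes.2 d.2))⟩ : {s : G // orderOf s = 2 ∧ s ∈ 𝐇})) ?_
    rintro ⟨⟨a, ha⟩, hax⟩ ⟨⟨b, hb⟩, hbx⟩ e
    have e' : a * t * a⁻¹ = b * t * b⁻¹ := congrArg Subtype.val e
    have hmem : b⁻¹ * a ∈ T := h.mem_of_commute ht htT
      (mem_centralizer_singleton.1 (conj_eq_iff_inv_mul_mem.1 e'))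
    have : b⁻¹ * a = 1 := sq_odd_eq_one (by rw [sq]; exact h.mul_self_of_mem hmem)
      (Odd.of_dvd_nat hD (Subgroup.orderOf_dvd_natCard D (mul_mem (inv_mem hb) ha)))
    exact Subtype.ext (Subtype.ext (inv_mul_eq_one.1 this).symm)
  have hfib : ∀ p, fib p ≤ Nat.card {d : D // (d : G) • x₀ = x₀} := by
    intro p
    by_cases hp : Nonempty {d : D // (d : G) • x₀ = p}
    · obtain ⟨⟨d₀, hd₀⟩⟩ := hp
      refine Nat.card_le_card_of_injective (fun d => (⟨d₀⁻¹ * d.1, by
        rw [Subgroup.coe_mul, Subgroup.coe_inv, mul_smul, d.2, inv_smul_eq_iff, hd₀]⟩ :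
        {d : D // (d : G) • x₀ = x₀})) fun a b e => ?_
      exact Subtype.ext (mul_left_cancel (congrArg Subtype.val e))
    · rw [not_nonempty_iff] at hp
      simp only [fib]
      haveI : IsEmpty {d : D // (d : G) • x₀ = p} := hp
      rw [Nat.card_of_isEmpty]
      exact Nat.zero_le _
  have hsum : Nat.card D = ∑ p, fib p := by
    rw [← Nat.card_sigma]
    exact Nat.card_congr (Equiv.sigmaFiberEquiv fun d : D => (d : G) • x₀).symm
  have hinv : Nat.card {s : G // orderOf s = 2} =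
      ∑ p : G ⧸ 𝐇, Nat.card {s : G // orderOf s = 2 ∧ s ∈ 𝐇} := by
    rw [Finset.sum_congr rfl fun p _ => (SE.card_fixing (H := 𝐇) p).symm, ← Nat.card_sigma]
    refine (Nat.card_congr (Equiv.ofBijective
      (fun x : Σ p : G ⧸ 𝐇, {v : G // orderOf v = 2 ∧ v • p = p} =>
        (⟨x.2.1, x.2.2.1⟩ : {s : G // orderOf s = 2})) ⟨?_, ?_⟩)).symm
    · rintro ⟨p, v, hv, hvp⟩ ⟨p', v', hv', hvp'⟩ e
      obtain rfl : v = v' := congrArg Subtype.val e
      obtain rfl : p = p' := SE.eq_of_fixed hSE hv hvp hvp'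
      rfl
    · rintro ⟨s, hs⟩
      obtain ⟨p, hp⟩ := SE.exists_fixed hSE hs
      exact ⟨⟨p, s, hs, hp⟩, rfl⟩
  rw [hsum, hinv] at hlt
  have heq : ∀ p, fib p = Nat.card {s : G // orderOf s = 2 ∧ s ∈ 𝐇} := by
    have hle : ∀ p ∈ (Finset.univ : Finset (G ⧸ 𝐇)),
        fib p ≤ Nat.card {s : G // orderOf s = 2 ∧ s ∈ 𝐇} := fun p _ => (hfib p).trans hR
    intro p
    exact (Finset.sum_eq_sum_iff_of_le hle).1 (le_antisymm (Finset.sum_le_sum hle) hlt) p
      (Finset.mem_univ p)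
  -- the stabilizer of `x₀` in `D`
  obtain ⟨R, hRdef⟩ : ∃ R : Subgroup G, R = D ⊓ stabilizer G x₀ := ⟨_, rfl⟩
  have hRmem : ∀ {g : G}, g ∈ R ↔ g ∈ D ∧ g • x₀ = x₀ := by
    intro g; rw [hRdef, Subgroup.mem_inf, MulAction.mem_stabilizer_iff]
  have hRcard : Nat.card R + 1 = Nat.card T := by
    have e : Nat.card R = fib x₀ := Nat.card_congr
      ⟨fun g => ⟨⟨g, (hRmem.1 g.2).1⟩, (hRmem.1 g.2).2⟩, fun d => ⟨d.1, hRmem.2 ⟨d.1.2, d.2⟩⟩,
        fun _ => rfl, fun _ => rfl⟩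
    rw [e, heq, hq]
  have hRodd : ∀ g ∈ R, Odd (orderOf g) := fun g hg =>
    Odd.of_dvd_nat hD (Subgroup.orderOf_dvd_natCard D (hRmem.1 hg).1)
  -- an element of prime order fixes a second point
  obtain ⟨p, hp, hpd⟩ := Nat.exists_prime_and_dvd (show Nat.card R ≠ 1 by omega)
  haveI := Fact.mk hp
  obtain ⟨⟨r, hr⟩, hrp⟩ := exists_prime_orderOf_dvd_card' p hpd
  rw [orderOf_mk] at hrp
  have hr1 : r ≠ 1 := fun e => by rw [e, orderOf_one] at hrp; exact hp.one_lt.ne hrp
  obtain ⟨y, hy, hry⟩ : ∃ y, y ≠ x₀ ∧ r • y = y := by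
    by_contra hno
    push Not at hno
    let σ : Equiv.Perm (G ⧸ 𝐇) := MulAction.toPermHom G _ r
    have hσ : σ ^ p ^ 1 = 1 := by
      rw [pow_one, ← map_pow, ← hrp, pow_orderOf_eq_one, map_one]
    have hcf : σ.supportᶜ = {x₀} := by
      ext v
      rw [Finset.mem_compl, Equiv.Perm.mem_support, not_not, Finset.mem_singleton]
      exact ⟨fun hv => by_contra fun hne => hno v hne hv, fun hv => hv ▸ (hRmem.1 hr).2⟩
    have h1 := Equiv.Perm.card_compl_support_modEq hσ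
    rw [hcf, Finset.card_singleton, ← Nat.card_eq_fintype_card, h.card_points] at h1
    have hdvd : p ∣ Nat.card T := by
      have := (Nat.modEq_iff_dvd' (by omega)).1 h1
      simpa using this
    have : p ∣ 1 := by
      have := Nat.dvd_sub hdvd hpd
      rwa [show Nat.card T - Nat.card R = 1 by omega] at this
    exact hp.ne_one (Nat.dvd_one.1 this)
  have hrP : r ∈ ElemAbCent.pair T y := ElemAbCent.mem_pair.2 ⟨(hRmem.1 hr).2, hry⟩
  -- `R` is the two point stabilizer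
  have hRle : R ≤ ElemAbCent.pair T y := by
    intro g hg
    have hgH := ElemAbCent.mem_iff_fixes.2 (hRmem.1 hg).2
    obtain ⟨e, he, τ, hτ, hge⟩ := h.exists_mul_eq hy hgH
    refine h.eq_pair_of_commute hy hrP hr1 hgH ?_
    have hc : g * r * g⁻¹ * r⁻¹ ∈ T := by
      have her : Commute r e := h.pair_comm hy hrP he
      have hτr : τ * (r * τ⁻¹ * r⁻¹) ∈ T := mul_mem hτ
        (h.conj_mem_sylow (ElemAbCent.mem_iff_fixes.2 (hRmem.1 hr).2) (inv_mem hτ))
      have h2 := h.conj_mem_sylow (ElemAbCent.mem_iff_fixes.2 (ElemAbCent.mem_pair.1 he).1) hτr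
      have h3 : g * r * g⁻¹ * r⁻¹ = e * (τ * (r * τ⁻¹ * r⁻¹)) * e⁻¹ := by
        calc g * r * g⁻¹ * r⁻¹ = e * τ * r * τ⁻¹ * (e⁻¹ * r⁻¹) := by rw [← hge]; group
          _ = e * τ * r * τ⁻¹ * (r⁻¹ * e⁻¹) := by rw [her.inv_inv.symm.eq]
          _ = _ := by group
      rwa [h3]
    have h1 : g * r * g⁻¹ * r⁻¹ = 1 := sq_odd_eq_one (by rw [sq]; exact h.mul_self_of_mem hc)
      (hRodd _ (mul_mem (mul_mem (mul_mem hg hr) (inv_mem hg)) (inv_mem hr)))
    exact (mul_inv_eq_iff_eq_mul.1 (mul_inv_eq_one.1 h1)).symm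
  have hReq : R = ElemAbCent.pair T y := Subgroup.eq_of_le_of_card_ge hRle (by
    have := h.card_pair hy; omega)
  -- an element of `D` exchanging the two points
  obtain ⟨⟨d, hdy⟩⟩ : Nonempty {d : D // (d : G) • x₀ = y} := by
    have hpos : 0 < fib y := by rw [heq]; omega
    exact (Nat.card_pos_iff.1 hpos).1
  have hfix : ∀ g ∈ ElemAbCent.pair T y, (d : G)⁻¹ * g * d ∈ R := fun g hg => by
    refine hRmem.2 ⟨mul_mem (mul_mem (inv_mem d.2) (hRmem.1 (hReq ▸ hg)).1) d.2, ?_⟩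
    rw [mul_smul, mul_smul, hdy, (ElemAbCent.mem_pair.1 hg).2, inv_smul_eq_iff, hdy]
  have hsurj : ∀ g ∈ R, (d : G) * g * (d : G)⁻¹ ∈ R := fun g hg => by
    let f : R → R := fun x => ⟨(d : G)⁻¹ * x * d, hfix x (hReq ▸ x.2)⟩
    have hf : Function.Injective f := fun a b e => Subtype.ext
      (mul_left_cancel (mul_right_cancel (congrArg Subtype.val e)))
    obtain ⟨x, hx⟩ := (Finite.injective_iff_surjective.1 hf) ⟨g, hg⟩
    have hx' : (d : G)⁻¹ * x * d = g := congrArg Subtype.val hx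
    rw [← hx']
    convert x.2 using 1
    group
  have hdy' : ∀ g ∈ ElemAbCent.pair T y, g • (d : G) • y = (d : G) • y := fun g hg => by
    have h1 := hReq ▸ hfix g hg
    have h2 := (ElemAbCent.mem_pair.1 h1).2
    rw [mul_smul, mul_smul, inv_smul_eq_iff] at h2
    exact h2
  rcases h.fixed_pair hy hdy' with e | e
  · -- then `d ^ 2` fixes `x₀`, so `d` does
    have h2 : ((d : G) ^ 2) • x₀ = x₀ := by rw [pow_two, mul_smul, hdy, e]
    obtain ⟨m, hm⟩ : Odd (orderOf (d : G)) := Odd.of_dvd_nat hD (Subgroup.orderOf_dvd_natCard D d.2)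
    have h1 : (d : G) • x₀ = x₀ := by
      have hp2 : ∀ l : ℕ, ((d : G) ^ (2 * l)) • x₀ = x₀ := fun l => by
        induction l with
        | zero => simp
        | succ l ih => rw [show 2 * (l + 1) = 2 + 2 * l by ring, pow_add, mul_smul, ih, h2]
      have := hp2 (m + 1)
      rwa [show 2 * (m + 1) = orderOf (d : G) + 1 by omega, pow_add, pow_orderOf_eq_one, one_mul,
        pow_one] at this
    exact hy (hdy.symm.trans h1)
  · exact hy ((smul_left_cancel_iff (d : G)).1 (e.trans hdy.symm))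

end CfsgLib.CharsMore.AbCent
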