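import Cfsg.Agent.Lib.CharsMore.AbCent.Quotient
import Cfsg.Agent.Lib.CharsMore.AbCent.Hall

/-!
# Abelian centralizers of involutions: the elements of odd order of `C` are central

Induction on the order of `G`. If `G` has trivial centre and some element of odd order of `C`
has its centralizer `M` outside `H`, then `M` is strongly embedded and `M` modulo its centre has
elementary abelian centralizers of involutions, so it has no subgroup of odd order with as many
elements as there are involutions; the stabilizer of two points of `G/M` gives such a subgroup.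
-/

set_option autoImplicit false
set_option linter.unusedSectionVars false

universe v

namespace CfsgLib.CharsMore.AbCent

open Subgroup MulAction CfsgLib.Involutions

/-- The inductive hypothesis. -/
def OddCentral (n : ℕ) : Prop :=
  ∀ (G : Type v) [Group G] [Finite G] (T : Sylow 2 G), Setup T → Nat.card G < n →
    ∀ a ∈ centralizer ((T : Subgroup G) : Set G), Odd (orderOf a) → a ∈ center G

variable {G : Type v} [Group G] [Finite G] {T : Sylow 2 G}

theorem commute_of_quot_central (h : Setup T) {a i : G} (hi : orderOf i = 2)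
    (hca : QuotientGroup.mk' (center G) a ∈ center (G ⧸ center G)) : Commute a i := by
  obtain ⟨z, hz⟩ : ∃ z, z = a * i * a⁻¹ * i⁻¹ := ⟨_, rfl⟩
  have hzZ : z ∈ center G := by
    rw [← QuotientGroup.eq_one_iff]
    show QuotientGroup.mk' (center G) z = 1
    rw [hz, map_mul, map_mul, map_mul, map_inv, map_inv,
      ← (mem_center_iff.1 hca (QuotientGroup.mk' (center G) i)), mul_inv_cancel_right,
      mul_inv_cancel]
  have he : a * i * a⁻¹ = z * i := by rw [hz, inv_mul_cancel_right]
  have h2 : z ^ 2 = 1 := by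
    have h1 : (a * i * a⁻¹) ^ 2 = 1 := by
      rw [conj_pow, ← hi, pow_orderOf_eq_one, mul_one, mul_inv_cancel]
    rw [he, (show Commute z i from (mem_center_iff.1 hzZ i).symm).mul_pow, ← hi,
      pow_orderOf_eq_one, mul_one, hi] at h1
    exact h1
  have h1 := eq_one_of_sq (center G) (fun w hw => h.center_odd hw) hzZ h2
  rw [h1, one_mul] at he
  exact mul_inv_eq_iff_eq_mul.1 he

/-- The case of a nontrivial centre. -/
theorem mem_center_of_center_ne_bot (h : Setup T) (ih : OddCentral.{v} (Nat.card G))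
    (hZ : center G ≠ ⊥) {a : G} (ha : a ∈ centralizer ((T : Subgroup G) : Set G))
    (hao : Odd (orderOf a)) : a ∈ center G := by
  refine h.mem_center_of_commute ha fun i hi => commute_of_quot_central h hi ?_
  have hlt : Nat.card (G ⧸ center G) < Nat.card G := by
    rw [card_eq_card_quotient_mul_card_subgroup (center G)]
    exact lt_mul_of_one_lt_right Nat.card_pos
      (Finite.one_lt_card_iff_nontrivial.2 ((Subgroup.nontrivial_iff_ne_bot _).2 hZ))
  refine ih _ _ (setup_quot (center G) le_rfl (fun z hz => h.center_odd hz) h) hlt _ ?_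
    (hao.of_dvd_nat (orderOf_map_dvd _ a))
  refine mem_centralizer_iff.2 fun x hx => ?_
  rw [SetLike.mem_coe, coe_quotSylow, mem_map] at hx
  obtain ⟨y, hy, rfl⟩ := hx
  rw [← map_mul, ← map_mul, mem_centralizer_iff.1 ha y hy]

/-- The critical case cannot occur. -/
theorem no_critical (h : Setup T) (ih : OddCentral.{v} (Nat.card G)) (hZ : center G = ⊥) {a₁ : G}
    (ha₁ : a₁ ∈ centralizer ((T : Subgroup G) : Set G)) (ha₁o : Odd (orderOf a₁)) (ha₁1 : a₁ ≠ 1)
    (hbad : ¬ centralizer ({a₁} : Set G) ≤ normalizer ((T : Subgroup G) : Set G)) : False := by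
  obtain ⟨M, hMdef⟩ : ∃ M, M = centralizer ({a₁} : Set G) := ⟨_, rfl⟩
  rw [← hMdef] at hbad
  have hCb : ∀ b ∈ centralizer ((T : Subgroup G) : Set G),
      centralizer ((T : Subgroup G) : Set G) ≤ centralizer ({b} : Set G) := fun b hb c hc =>
    mem_centralizer_singleton.2 (h.C_comm hb hc)
  have hCM : centralizer ((T : Subgroup G) : Set G) ≤ M := hMdef ▸ hCb a₁ ha₁
  have hTM : (T : Subgroup G) ≤ M := h.le_C.trans hCM
  have hMtop : M ≠ ⊤ := by
    intro e
    apply ha₁1
    rw [← mem_bot, ← hZ, mem_center_iff]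
    intro g
    have hg : g ∈ M := e ▸ mem_top g
    rw [hMdef] at hg
    exact (mem_centralizer_singleton.1 hg).symm
  have hMs := h.subgroup hTM hbad
  have hcard : Nat.card M < Nat.card G := by
    rcases (Subgroup.card_le_card_group M).lt_or_eq with h' | h'
    · exact h'
    · exact absurd (Subgroup.eq_top_of_card_eq M h') hMtop
  obtain ⟨t, htT, ht, -⟩ := h.exists_central
  have htM : t ∈ M := hTM htT
  have hconjM : ∀ s ∈ M, orderOf s = 2 → ∃ m ∈ M, m * t * m⁻¹ = s := by
    intro s hs hso
    obtain ⟨c, hc⟩ := isConj_iff.1 (SE.isConj hMs.stronglyEmbedded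
      (a := (⟨t, htM⟩ : M)) (b := ⟨s, hs⟩) (by rw [← orderOf_coe]; exact ht)
      (by rw [← orderOf_coe]; exact hso))
    exact ⟨c, c.2, congrArg Subtype.val hc⟩
  have hMSE : Cfsg.IsStronglyEmbedded M := by
    refine ⟨hMtop, (even_card_iff _).2 ⟨t, htM, ht⟩, fun g hg => ?_⟩
    rw [odd_card_iff]
    intro s hs hso
    apply hg
    have ho : orderOf (g⁻¹ * s * g) = 2 := by simpa [hso] using orderOf_conj_eq g⁻¹ s
    obtain ⟨m, hm, e⟩ := hconjM s hs.1 hso
    obtain ⟨m', hm', e'⟩ := hconjM _ (mem_conj_map.1 hs.2) ho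
    have hc : m⁻¹ * g * m' ∈ M := hCM (h.mem_C_of_commute ht htT (Commute.symm (by
      show m⁻¹ * g * m' * t = t * (m⁻¹ * g * m')
      calc m⁻¹ * g * m' * t = m⁻¹ * g * (m' * t * m'⁻¹) * m' := by group
        _ = m⁻¹ * s * g * m' := by rw [e']; group
        _ = t * (m⁻¹ * g * m') := by rw [← e]; group)))
    have := mul_mem (mul_mem hm hc) (inv_mem hm')
    rwa [show m * (m⁻¹ * g * m') * m'⁻¹ = g by group] at this
  obtain ⟨u, huM, hu⟩ := SE.exists_invol_not_mem hMSE
  obtain ⟨z, hz⟩ : ∃ z : G ⧸ M, z = u • ((1 : G) : G ⧸ M) := ⟨_, rfl⟩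
  have hne : ((1 : G) : G ⧸ M) ≠ z := fun e => huM (by
    have := SE.smul_mk_eq_iff.1 (e.trans hz).symm
    simpa using this)
  have hfix : t • ((1 : G) : G ⧸ M) = ((1 : G) : G ⧸ M) :=
    SE.smul_mk_eq_iff.2 (by simpa using htM)
  have hcount : Nat.card {i : G // orderOf i = 2 ∧ i • ((1 : G) : G ⧸ M) = z} =
      Nat.card {s : G // orderOf s = 2 ∧ s ∈ M} := by
    rw [SE.card_carry hMSE ht hne hfix, SE.card_fixing]
  -- the quotient of `M` by its centre
  have hZo : ∀ w ∈ center M, Odd (orderOf w) := fun w hw => hMs.center_odd hw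
  have hQ := elemAbCent_quot (center M) le_rfl hZo hMs
    (fun a ha hao => ih M _ hMs hcard a ha hao)
  obtain ⟨D, hDdef⟩ : ∃ D : Subgroup G,
      D = stabilizer G ((1 : G) : G ⧸ M) ⊓ stabilizer G z := ⟨_, rfl⟩
  have hDmem : ∀ {g : G}, g ∈ D ↔ g • ((1 : G) : G ⧸ M) = ((1 : G) : G ⧸ M) ∧ g • z = z := by
    intro g; rw [hDdef, Subgroup.mem_inf, MulAction.mem_stabilizer_iff, MulAction.mem_stabilizer_iff]
  have hDM : D ≤ M := fun g hg => by simpa using SE.smul_mk_eq_iff.1 (hDmem.1 hg).1
  have hDodd : Odd (Nat.card D) := by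
    rw [odd_card_iff]
    intro s hs hso
    have := SE.odd_of_two_fixed hMSE hne (hDmem.1 hs).1 (hDmem.1 hs).2
    rw [hso] at this
    exact absurd this (by decide)
  obtain ⟨D', hD'⟩ : ∃ D' : Subgroup (M ⧸ center M),
      D' = (D.subgroupOf M).map (QuotientGroup.mk' (center M)) := ⟨_, rfl⟩
  have hD'odd : Odd (Nat.card D') := by
    refine Odd.of_dvd_nat hDodd ?_
    rw [hD', ← Nat.card_congr (subgroupOfEquivOfLe hDM).toEquiv]
    exact Subgroup.card_map_dvd _ _
  have hmemD : ∀ i : G, orderOf i = 2 → i • ((1 : G) : G ⧸ M) = z → i * u ∈ D := by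
    intro i hi hiz
    refine hDmem.2 ⟨?_, ?_⟩
    · rw [mul_smul, ← hz, ← hiz, ← mul_smul, invol_mul_self hi, one_smul]
    · rw [mul_smul, hz, ← mul_smul u u, invol_mul_self hu, one_smul, ← hz, hiz]
  let f : {i : G // orderOf i = 2 ∧ i • ((1 : G) : G ⧸ M) = z} → D' := fun i =>
    ⟨QuotientGroup.mk' (center M) ⟨(i : G) * u, hDM (hmemD i i.2.1 i.2.2)⟩,
      hD' ▸ mem_map_of_mem _ (mem_subgroupOf.2 (hmemD i i.2.1 i.2.2))⟩
  have hf : Function.Injective f := by
    rintro ⟨i, hi, hiz⟩ ⟨j, hj, hjz⟩ e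
    have hc := QuotientGroup.eq.1 (congrArg Subtype.val e : QuotientGroup.mk' (center M) _ = _)
    have hcC : (i * u)⁻¹ * (j * u) ∈ centralizer ((T : Subgroup G) : Set G) :=
      mem_centralizer_iff.2 fun x hx => congrArg Subtype.val (mem_center_iff.1 hc ⟨x, hTM hx⟩)
    have hodd : Odd (orderOf ((i * u)⁻¹ * (j * u))) := Odd.of_dvd_nat hDodd
      (Subgroup.orderOf_dvd_natCard D (mul_mem (inv_mem (hmemD i hi hiz)) (hmemD j hj hjz)))
    have hw : orderOf (u * i * u⁻¹) = 2 := conj_invol u hi
    have h1 := h.not_inverted hcC hodd hw (by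
      simp only [mul_inv_rev, invol_inv hi, invol_inv hu, invol_inv hj, inv_inv, mul_assoc]
      simp only [← mul_assoc u u, invol_mul_self hu, one_mul, ← mul_assoc i i, invol_mul_self hi,
        mul_one])
    exact Subtype.ext (mul_right_cancel (inv_mul_eq_one.1 h1))
  have hle1 : Nat.card {i : G // orderOf i = 2 ∧ i • ((1 : G) : G ⧸ M) = z} ≤ Nat.card D' :=
    Nat.card_le_card_of_injective f hf
  have hle2 : Nat.card {s : M ⧸ center M // orderOf s = 2} ≤
      Nat.card {s : G // orderOf s = 2 ∧ s ∈ M} := by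
    choose w hw hws hwc using fun s : {s : M ⧸ center M // orderOf s = 2} =>
      exists_lift (center M) le_rfl hZo s.2
    refine Nat.card_le_card_of_injective (fun s => (⟨(w s : G), by rw [orderOf_coe]; exact hw s,
      (w s).2⟩ : {s : G // orderOf s = 2 ∧ s ∈ M})) fun a b e => ?_
    have e' : w a = w b := Subtype.ext (congrArg Subtype.val e :)
    exact Subtype.ext (by rw [← hws a, ← hws b, e'])
  have := odd_subgroup_lt hQ D' hD'odd
  omega

/-- **The elements of odd order of `C` are central.** -/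
theorem odd_mem_center_aux : ∀ n : ℕ, OddCentral.{v} n := by
  intro n
  induction n using Nat.strong_induction_on with
  | _ n ihn =>
    intro G _ _ T h hlt a ha hao
    have ih : OddCentral.{v} (Nat.card G) := ihn _ hlt
    by_cases hZ : center G = ⊥
    · obtain ⟨t, htT, ht, -⟩ := h.exists_central
      have hI : ∀ b ∈ centralizer ((T : Subgroup G) : Set G), Odd (orderOf b) → b ≠ 1 →
          centralizer ({b} : Set G) ≤ normalizer ((T : Subgroup G) : Set G) := fun b hb hbo hb1 =>
        by_contra fun hbad => no_critical h ih hZ hb hbo hb1 hbad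
      rw [sq_odd_eq_one (C_exponent_two h hI ht htT a ha) hao]
      exact one_mem _
    · exact mem_center_of_center_ne_bot h ih hZ ha hao

theorem Setup.odd_mem_center (h : Setup T) {a : G}
    (ha : a ∈ centralizer ((T : Subgroup G) : Set G)) (hao : Odd (orderOf a)) : a ∈ center G :=
  odd_mem_center_aux (Nat.card G + 1) G T h (Nat.lt_succ_self _) a ha hao

end CfsgLib.CharsMore.AbCent
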