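import Cfsg.Agent.Lib.CharsMore.AbCent.Basic

/-!
# Abelian centralizers of involutions: pairs of cosets

For involutions `i, u` carrying `x₀` to `z` the products `i * u` represent `H/C`; the elements of
the stabilizer of `x₀` and `z` commuting with `u` are the products `a * u a u` with `a ∈ C`
fixing `z`. If no element of odd order of `C` has its centralizer outside `H` then `C` is
semiregular on the cosets other than `H`.
-/

set_option autoImplicit false
set_option linter.unusedSectionVars false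

namespace CfsgLib.CharsMore.AbCent

open Subgroup MulAction CfsgLib.Involutions

variable {G : Type*} [Group G] [Finite G]

namespace Setup

variable {T : Sylow 2 G} (h : Setup T)
include h

local notation "𝐇" => normalizer ((T : Subgroup G) : Set G)
local notation "𝐂" => centralizer ((T : Subgroup G) : Set G)
local notation "x₀" => (QuotientGroup.mk (1 : G) : G ⧸ 𝐇)

theorem card_carriers {z : G ⧸ 𝐇} (hz : x₀ ≠ z) :
    Nat.card {i : G // orderOf i = 2 ∧ i • x₀ = z} =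
      Nat.card {s : G // orderOf s = 2 ∧ s ∈ 𝐇} := by
  obtain ⟨t, htT, ht, -⟩ := h.exists_central
  rw [SE.card_carry h.stronglyEmbedded ht hz (mem_H_iff.1 (le_normalizer htT)), SE.card_fixing]

theorem exists_carrier {z : G ⧸ 𝐇} (hz : x₀ ≠ z) : ∃ u : G, orderOf u = 2 ∧ u • x₀ = z := by
  have h1 : 0 < Nat.card {i : G // orderOf i = 2 ∧ i • x₀ = z} := by
    rw [h.card_carriers hz]; have := h.two_le_invol; omega
  obtain ⟨⟨u, hu⟩⟩ := (Nat.card_pos_iff.1 h1).1
  exact ⟨u, hu⟩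

omit h [Finite G] in
theorem carrier_back {u : G} (hu : orderOf u = 2) {z : G ⧸ 𝐇} (huz : u • x₀ = z) : u • z = x₀ := by
  rw [← huz, ← mul_smul, invol_mul_self hu, one_smul]

omit h [Finite G] in
theorem carrier_fixes {i u : G} (hi : orderOf i = 2) (hu : orderOf u = 2) {z : G ⧸ 𝐇}
    (hiz : i • x₀ = z) (huz : u • x₀ = z) : (i * u) • x₀ = x₀ ∧ (i * u) • z = z :=
  ⟨by rw [mul_smul, huz, carrier_back hi hiz], by rw [mul_smul, carrier_back hu huz, hiz]⟩

omit h [Finite G] in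
theorem carrier_inverted {i u : G} (hi : orderOf i = 2) (hu : orderOf u = 2) :
    u * (i * u) * u⁻¹ = (i * u)⁻¹ := by
  rw [mul_inv_rev, invol_inv hi, invol_inv hu, mul_assoc, mul_assoc, invol_mul_self hu, mul_one]

theorem odd_of_fixed {d : G} {z : G ⧸ 𝐇} (hz : x₀ ≠ z) (h0 : d • x₀ = x₀) (h1 : d • z = z) :
    Odd (orderOf d) :=
  SE.odd_of_two_fixed h.stronglyEmbedded hz h0 h1

/-- The products `i * u` represent `H/C`. -/
theorem exists_factor {g : G} (hg : g ∈ 𝐇) {z : G ⧸ 𝐇} (hz : x₀ ≠ z) {u : G} (hu : orderOf u = 2)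
    (huz : u • x₀ = z) : ∃ i, orderOf i = 2 ∧ i • x₀ = z ∧ (i * u)⁻¹ * g ∈ 𝐂 := by
  obtain ⟨t, htT, ht, -⟩ := h.exists_central
  have htH : t ∈ 𝐇 := le_normalizer htT
  let f : {i : G // orderOf i = 2 ∧ i • x₀ = z} → {s : G // orderOf s = 2 ∧ s ∈ 𝐇} := fun i =>
    ⟨(i * u) * t * ((i : G) * u)⁻¹, conj_invol _ ht,
      mul_mem (mul_mem (mem_H_iff.2 (carrier_fixes i.2.1 hu i.2.2 huz).1) htH)
        (inv_mem (mem_H_iff.2 (carrier_fixes i.2.1 hu i.2.2 huz).1))⟩
  have hfC : ∀ x y : G, x * t * x⁻¹ = y * t * y⁻¹ → x⁻¹ * y ∈ 𝐂 := fun x y e => by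
    rw [← h.centralizer_eq ht htT]
    refine mem_centralizer_singleton.2 (?_ : t * (x⁻¹ * y) = x⁻¹ * y * t)
    calc t * (x⁻¹ * y) = x⁻¹ * (x * t * x⁻¹) * y := by group
      _ = x⁻¹ * y * t := by rw [e]; group
  have hf : Function.Injective f := by
    rintro ⟨i, hi, hiz⟩ ⟨j, hj, hjz⟩ e
    have hc : (i * u)⁻¹ * (j * u) ∈ 𝐂 := hfC _ _ (congrArg Subtype.val e)
    have hfi := carrier_fixes hi hu hiz huz
    have hfj := carrier_fixes hj hu hjz huz
    have hodd := h.odd_of_fixed (d := (i * u)⁻¹ * (j * u)) hz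
      (by rw [mul_smul, hfj.1, inv_smul_eq_iff, hfi.1]) (by rw [mul_smul, hfj.2, inv_smul_eq_iff, hfi.2])
    have hw : orderOf (u * i * u⁻¹) = 2 := conj_invol u hi
    have h1 := h.not_inverted hc hodd hw (by
      simp only [mul_inv_rev, invol_inv hi, invol_inv hu, invol_inv hj, inv_inv, mul_assoc]
      simp only [← mul_assoc u u, invol_mul_self hu, one_mul, ← mul_assoc i i, invol_mul_self hi,
        mul_one])
    exact Subtype.ext (mul_right_cancel (inv_mul_eq_one.1 h1))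
  obtain ⟨⟨i, hi, hiz⟩, he⟩ := ((Nat.bijective_iff_injective_and_card f).2
    ⟨hf, h.card_carriers hz⟩).2 ⟨g * t * g⁻¹, conj_invol g ht, mul_mem (mul_mem hg htH) (inv_mem hg)⟩
  exact ⟨i, hi, hiz, hfC _ _ (congrArg Subtype.val he)⟩

/-- `G` is covered by products of at most two involutions and an element of `C`. -/
theorem mem_center_of_commute {a : G} (ha : a ∈ 𝐂) (hc : ∀ i : G, orderOf i = 2 → Commute a i) :
    a ∈ center G := by
  obtain ⟨t, htT, ht, -⟩ := h.exists_central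
  obtain ⟨u₀, hu₀H, hu₀⟩ := SE.exists_invol_not_mem h.stronglyEmbedded
  have hC : ∀ c ∈ 𝐂, Commute a c := fun c hc' => h.C_comm ha hc'
  have hH : ∀ g ∈ 𝐇, Commute a g := by
    intro g hg
    have hz : x₀ ≠ u₀ • x₀ := fun e => hu₀H (mem_H_iff.2 e.symm)
    obtain ⟨i, hi, -, hic⟩ := h.exists_factor hg hz hu₀ rfl
    have := ((hc i hi).mul_right (hc u₀ hu₀)).mul_right (hC _ hic)
    rwa [mul_inv_cancel_left] at this
  refine mem_center_iff.2 fun g => ?_
  by_cases hg : g ∈ 𝐇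
  · exact (hH g hg).eq.symm
  · have hfix : (g * t * g⁻¹) • (g : G ⧸ 𝐇) = g :=
      SE.smul_mk_eq_iff.2 (by simpa [mul_assoc] using le_normalizer htT)
    have hne : x₀ ≠ (g : G ⧸ 𝐇) := fun e => hg (by
      have := QuotientGroup.eq.1 e
      simpa using this)
    obtain ⟨w, ⟨hw, -, hwt⟩, -⟩ := SE.existsUnique_conj h.stronglyEmbedded ht (conj_invol g ht) hne
      (mem_H_iff.1 (le_normalizer htT)) hfix
    have hwg : w * g ∈ 𝐂 := by
      rw [← h.centralizer_eq ht htT]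
      refine mem_centralizer_singleton.2 (?_ : t * (w * g) = w * g * t)
      calc t * (w * g) = w * w * t * (w * g) := by rw [invol_mul_self hw, one_mul]
        _ = w * (w * t * w) * g := by group
        _ = w * g * t := by rw [hwt]; group
    have := (hc w hw).mul_right (hC _ hwg)
    rw [← mul_assoc, invol_mul_self hw, one_mul] at this
    exact this.eq.symm

/-- Elements of `C` and their conjugates under a carrier commute. -/
theorem commute_conj {z : G ⧸ 𝐇} (hz : x₀ ≠ z) {u : G} (hu : orderOf u = 2) (huz : u • x₀ = z)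
    {a : G} (ha : a ∈ 𝐂) (haz : a • z = z) : Commute a (u * a * u⁻¹) := by
  have hui := invol_inv hu
  have hodd := h.odd_of_fixed hz (mem_H_iff.1 (h.C_le_H ha)) haz
  obtain ⟨a', ha'⟩ : ∃ a', a' = u * a * u⁻¹ := ⟨_, rfl⟩
  rw [← ha']
  have ha'0 : a' • x₀ = x₀ := by
    rw [ha', hui, mul_smul, mul_smul, huz, haz, carrier_back hu huz]
  have ha'z : a' • z = z := by
    rw [ha', hui, mul_smul, mul_smul, carrier_back hu huz, mem_H_iff.1 (h.C_le_H ha), huz]
  have ha'H : a' ∈ 𝐇 := mem_H_iff.2 ha'0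
  obtain ⟨c, hc⟩ : ∃ c, c = a * a' * a⁻¹ * a'⁻¹ := ⟨_, rfl⟩
  have hcC : c ∈ 𝐂 := by
    rw [hc, show a * a' * a⁻¹ * a'⁻¹ = a * (a' * a⁻¹ * a'⁻¹) by group]
    exact mul_mem ha (h.conj_mem_C ha'H (inv_mem ha))
  have huc : u * c * u⁻¹ = c⁻¹ := by
    rw [hc, ha', hui]
    simp only [mul_inv_rev, invol_inv hu, inv_inv, mul_assoc]
    simp only [← mul_assoc u u, invol_mul_self hu, one_mul, mul_one]
  have hco : Odd (orderOf c) := h.odd_of_fixed hz (mem_H_iff.1 (h.C_le_H hcC)) (by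
    rw [hc, mul_smul, mul_smul, mul_smul, inv_smul_eq_iff.2 ha'z.symm,
      inv_smul_eq_iff.2 haz.symm, ha'z, haz])
  have h1 := h.not_inverted hcC hco hu huc
  rw [hc] at h1
  exact mul_inv_eq_iff_eq_mul.1 (mul_inv_eq_one.1 h1)

/-- The elements of the stabilizer of two cosets commuting with a carrier. -/
theorem exists_fixed_eq {z : G ⧸ 𝐇} (hz : x₀ ≠ z) {u : G} (hu : orderOf u = 2) (huz : u • x₀ = z)
    {y : G} (hy0 : y • x₀ = x₀) (hyz : y • z = z) (hyu : u * y * u⁻¹ = y) :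
    ∃ a ∈ 𝐂, a • z = z ∧ Odd (orderOf a) ∧ y = a * (u * a * u⁻¹) := by
  classical
  have hui := invol_inv hu
  let K := {a : G // a ∈ 𝐂 ∧ a • z = z}
  let F := {y : G // y • x₀ = x₀ ∧ y • z = z ∧ u * y * u⁻¹ = y}
  let Car := {i : G // orderOf i = 2 ∧ i • x₀ = z}
  let D := {d : G // d • x₀ = x₀ ∧ d • z = z}
  let φ : K → F := fun a => ⟨(a : G) * (u * a * u⁻¹), by
      rw [hui, mul_smul, mul_smul, mul_smul, huz, a.2.2, carrier_back hu huz,
        mem_H_iff.1 (h.C_le_H a.2.1)], by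
      rw [hui, mul_smul, mul_smul, mul_smul, carrier_back hu huz, mem_H_iff.1 (h.C_le_H a.2.1), huz,
        a.2.2], by
      have hcm := h.commute_conj hz hu huz a.2.1 a.2.2
      conv_rhs => rw [hcm.eq]
      rw [hui]
      simp only [mul_assoc]
      simp only [← mul_assoc u u, invol_mul_self hu, one_mul, mul_one]⟩
  have hφ : Function.Injective φ := by
    rintro ⟨a, ha, haz⟩ ⟨b, hb, hbz⟩ e
    have e' : a * (u * a * u⁻¹) = b * (u * b * u⁻¹) := congrArg Subtype.val e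
    have h2 : u * (b⁻¹ * a) * u⁻¹ = (b⁻¹ * a)⁻¹ := by
      have h3 : b⁻¹ * a = u * (b * a⁻¹) * u⁻¹ := by
        calc b⁻¹ * a = b⁻¹ * (a * (u * a * u⁻¹)) * (u * a * u⁻¹)⁻¹ := by group
          _ = u * (b * a⁻¹) * u⁻¹ := by rw [e']; group
      nth_rewrite 1 [h3]
      rw [mul_inv_rev, inv_inv, hui]
      simp only [mul_assoc]
      simp only [← mul_assoc u u, invol_mul_self hu, one_mul, mul_one]
      exact (h.C_comm hb (inv_mem ha)).eq
    have hba : b⁻¹ * a ∈ 𝐂 := mul_mem (inv_mem hb) ha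
    have := h.not_inverted hba (h.odd_of_fixed hz (mem_H_iff.1 (h.C_le_H hba))
      (by rw [mul_smul, haz, inv_smul_eq_iff, hbz])) hu h2
    exact Subtype.ext (inv_mul_eq_one.1 this).symm
  have h1 : Nat.card F * Nat.card Car ≤ Nat.card D := by
    rw [← Nat.card_prod]
    refine Nat.card_le_card_of_injective (fun p : F × Car => (⟨p.1 * (p.2 * u), by
      rw [mul_smul, (carrier_fixes p.2.2.1 hu p.2.2.2 huz).1, p.1.2.1], by
      rw [mul_smul, (carrier_fixes p.2.2.1 hu p.2.2.2 huz).2, p.1.2.2.1]⟩ : D)) ?_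
    rintro ⟨⟨f, hf⟩, ⟨i, hi, hiz⟩⟩ ⟨⟨f', hf'⟩, ⟨j, hj, hjz⟩⟩ e
    have e' : f * (i * u) = f' * (j * u) := congrArg Subtype.val e
    obtain ⟨g, hg⟩ : ∃ g, g = f'⁻¹ * f := ⟨_, rfl⟩
    have hgx : g * (i * u) = j * u := by rw [hg, mul_assoc, e', inv_mul_cancel_left]
    have hgu : u * g * u⁻¹ = g := by
      rw [hg, show u * (f'⁻¹ * f) * u⁻¹ = (u * f' * u⁻¹)⁻¹ * (u * f * u⁻¹) by group, hf.2.2, hf'.2.2]
    have hxg : (i * u) * g * (i * u)⁻¹ = g⁻¹ := by
      have h5 : g * (i * u)⁻¹ = (g * (i * u))⁻¹ := by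
        calc g * (i * u)⁻¹ = (u * g * u⁻¹) * (u * (i * u) * u⁻¹) := by
              rw [hgu, carrier_inverted hi hu]
          _ = u * (g * (i * u)) * u⁻¹ := by group
          _ = (g * (i * u))⁻¹ := by rw [hgx, carrier_inverted hj hu]
      calc (i * u) * g * (i * u)⁻¹ = (i * u) * (g * (i * u)⁻¹) := mul_assoc _ _ _
        _ = g⁻¹ := by rw [h5, mul_inv_rev, mul_inv_cancel_left]
    have hodd := h.odd_of_fixed hz (carrier_fixes hi hu hiz huz).1 (carrier_fixes hi hu hiz huz).2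
    obtain ⟨m, hm⟩ := hodd
    have hgo : Odd (orderOf g) := h.odd_of_fixed hz
      (by rw [hg, mul_smul, hf.1, inv_smul_eq_iff, hf'.1])
      (by rw [hg, mul_smul, hf.2.1, inv_smul_eq_iff, hf'.2.1])
    have hg1 : g = 1 := by
      refine eq_one_of_eq_inv_of_odd ?_ hgo
      have hpow : ∀ (x : G), x * g * x⁻¹ = g⁻¹ → ∀ l : ℕ,
          x ^ (2 * l + 1) * g * (x ^ (2 * l + 1))⁻¹ = g⁻¹ := by
        intro x hx l
        induction l with
        | zero => simpa using hx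
        | succ l ih =>
          calc x ^ (2 * (l + 1) + 1) * g * (x ^ (2 * (l + 1) + 1))⁻¹
              = x * (x * (x ^ (2 * l + 1) * g * (x ^ (2 * l + 1))⁻¹) * x⁻¹) * x⁻¹ := by
                rw [show 2 * (l + 1) + 1 = 2 * l + 1 + 1 + 1 by ring, pow_succ', pow_succ']; group
            _ = g⁻¹ := by
                rw [ih, show x * g⁻¹ * x⁻¹ = (x * g * x⁻¹)⁻¹ by group, hx, inv_inv, hx]
      rw [← hpow _ hxg m, ← hm, pow_orderOf_eq_one, one_mul, inv_one, mul_one]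
    rw [hg1, one_mul] at hgx
    rw [hg, inv_mul_eq_one] at hg1
    obtain rfl := mul_right_cancel hgx
    obtain rfl := hg1
    rfl
  have h2 : Nat.card D ≤ Nat.card K * Nat.card Car := by
    have hfac : ∀ d : D, ∃ p : K × Car, (d : G) = (p.2 : G) * u * (p.1 : G) := by
      rintro ⟨d, hd0, hdz⟩
      obtain ⟨i, hi, hiz, hc⟩ := h.exists_factor (mem_H_iff.2 hd0) hz hu huz
      exact ⟨(⟨_, hc, by rw [mul_smul, hdz, inv_smul_eq_iff, (carrier_fixes hi hu hiz huz).2]⟩,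
        ⟨i, hi, hiz⟩), (mul_inv_cancel_left _ _).symm⟩
    choose p hp using hfac
    rw [← Nat.card_prod]
    exact Nat.card_le_card_of_injective p fun d e hde => Subtype.ext (by rw [hp d, hp e, hde])
  have hCar : 0 < Nat.card Car := by
    haveI : Nonempty Car := ⟨⟨u, hu, huz⟩⟩
    exact Nat.card_pos
  have hle : Nat.card F ≤ Nat.card K := Nat.le_of_mul_le_mul_right (h1.trans h2) hCar
  obtain ⟨⟨a, ha, haz⟩, he⟩ := ((Nat.bijective_iff_injective_and_card φ).2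
    ⟨hφ, le_antisymm (Nat.card_le_card_of_injective φ hφ) hle⟩).2 ⟨y, hy0, hyz, hyu⟩
  exact ⟨a, ha, haz, h.odd_of_fixed hz (mem_H_iff.1 (h.C_le_H ha)) haz,
    (congrArg Subtype.val he).symm⟩

/-- `C` is semiregular away from `H` if centralizers of its elements of odd order lie in `H`. -/
theorem C_free (hI : ∀ a ∈ 𝐂, Odd (orderOf a) → a ≠ 1 → centralizer ({a} : Set G) ≤ 𝐇) {a : G}
    (ha : a ∈ 𝐂) {z : G ⧸ 𝐇} (hz : x₀ ≠ z) (haz : a • z = z) : a = 1 := by
  by_contra ha1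
  obtain ⟨t, htT, ht, -⟩ := h.exists_central
  have hao := h.odd_of_fixed hz (mem_H_iff.1 (h.C_le_H ha)) haz
  have htC : t ∈ 𝐂 := h.le_C htT
  obtain ⟨g, rfl⟩ := QuotientGroup.mk_surjective z
  have hg0 : g • x₀ = (g : G ⧸ 𝐇) := by
    rw [MulAction.Quotient.smul_mk, smul_eq_mul, mul_one]
  have hg' : g⁻¹ • (g : G ⧸ 𝐇) = x₀ := by rw [← hg0, inv_smul_smul]
  obtain ⟨w, hw⟩ : ∃ w : G ⧸ 𝐇, w = g⁻¹ • t • (g : G ⧸ 𝐇) := ⟨_, rfl⟩
  have hw0 : x₀ ≠ w := fun e => hz (SE.eq_of_fixed h.stronglyEmbedded ht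
    (mem_H_iff.1 (le_normalizer htT)) (by
      have e2 := congrArg (g • ·) (e.trans hw)
      simp only [smul_inv_smul, hg0] at e2
      exact e2.symm))
  obtain ⟨v₀, hv₀⟩ : ∃ v₀, v₀ = g⁻¹ * t * g := ⟨_, rfl⟩
  have hv₀o : orderOf v₀ = 2 := by
    have := conj_invol g⁻¹ ht
    rw [inv_inv] at this
    rwa [hv₀]
  have hv₀w : v₀ • x₀ = w := by rw [hv₀, hw, mul_smul, mul_smul, hg0]
  have hat : Commute a t := h.C_comm ha htC
  obtain ⟨b, hb, hbw, -, hab⟩ := h.exists_fixed_eq hw0 hv₀o hv₀w (y := g⁻¹ * a * g)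
    (by rw [mul_smul, mul_smul, hg0, haz, hg'])
    (by rw [hw, mul_smul, mul_smul, smul_inv_smul, ← mul_smul a t, hat.eq, mul_smul, haz])
    (by
      rw [hv₀]
      calc g⁻¹ * t * g * (g⁻¹ * a * g) * (g⁻¹ * t * g)⁻¹ = g⁻¹ * (t * a * t⁻¹) * g := by group
        _ = g⁻¹ * a * g := by rw [hat.symm.eq, mul_inv_cancel_right])
  have hcm := h.commute_conj hw0 hv₀o hv₀w hb hbw
  obtain ⟨β, hβ⟩ : ∃ β, β = g * b * g⁻¹ := ⟨_, rfl⟩
  have haβ : a = β * (t * β * t⁻¹) := by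
    calc a = g * (g⁻¹ * a * g) * g⁻¹ := by group
      _ = β * (t * β * t⁻¹) := by rw [hab, hv₀, hβ]; group
  have hβc : Commute β (t * β * t⁻¹) := by
    have := hcm.map (MulAut.conj g)
    rw [MulAut.conj_apply, MulAut.conj_apply, hv₀, ← hβ] at this
    convert this using 1
    rw [hβ]; group
  have hβa : β ∈ centralizer ({a} : Set G) := mem_centralizer_singleton.2 (by
    rw [haβ]; exact ((Commute.refl β).mul_right hβc).symm)
  have hβH : β ∈ 𝐇 := hI a ha hao ha1 hβa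
  have hβz : β • (g : G ⧸ 𝐇) = g := by
    rw [hβ, mul_smul, mul_smul, hg', mem_H_iff.1 (h.C_le_H hb), hg0]
  -- the commutator of `t` and `β`
  have hτT : (t * β * t⁻¹) * β⁻¹ ∈ (T : Subgroup G) := by
    rw [show t * β * t⁻¹ * β⁻¹ = t * (β * t⁻¹ * β⁻¹) by group]
    exact mul_mem htT ((mem_normalizer_iff.1 hβH _).1 (inv_mem htT))
  have hτz : ((t * β * t⁻¹) * β⁻¹) • (g : G ⧸ 𝐇) = g := by
    rw [show t * β * t⁻¹ = β⁻¹ * a by rw [haβ, inv_mul_cancel_left], mul_smul,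
      inv_smul_eq_iff.2 hβz.symm, mul_smul, haz, inv_smul_eq_iff.2 hβz.symm]
  have hτ1 : (t * β * t⁻¹) * β⁻¹ = 1 := h.not_mem_T_of_odd (h.odd_of_fixed hz
    (mem_H_iff.1 (le_normalizer hτT)) hτz) hτT
  rw [mul_inv_eq_one] at hτ1
  have hbb : g⁻¹ * a * g ∈ 𝐂 := by
    rw [show g⁻¹ * a * g = b * b by rw [haβ, hτ1, hβ]; group]
    exact mul_mem hb hb
  have hgt : g * t * g⁻¹ ∈ centralizer ({a} : Set G) := by
    refine mem_centralizer_singleton.2 ?_
    have := ((h.C_comm hbb htC)).map (MulAut.conj g)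
    simpa [mul_assoc] using this
  have := hI a ha hao ha1 hgt
  exact hz (mem_H_iff.1 (h.mem_H_of_conj ht htT (h.invol_mem (conj_invol g ht) this)) ▸ hg0)

end Setup

end CfsgLib.CharsMore.AbCent
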