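import Cfsg.Agent.Lib.CharsMore.AbCent.Zass
import Cfsg.Agent.Lib.Involutions.ElemAbCentPSL

/-!
# Abelian centralizers of involutions: subgroups and central quotients of odd order
-/

set_option autoImplicit false
set_option linter.unusedSectionVars false

namespace CfsgLib.CharsMore.AbCent

open Subgroup CfsgLib.Involutions

variable {G : Type*} [Group G] [Finite G] {T : Sylow 2 G}

/-- A proper subgroup containing `T` but not inside `N(T)` satisfies the hypotheses. -/
theorem Setup.subgroup (h : Setup T) {M : Subgroup G} (hle : (T : Subgroup G) ≤ M)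
    (hM : ¬ M ≤ normalizer ((T : Subgroup G) : Set G)) : Setup (T.subtype hle) where
  nc := fun hc => h.nc (by
    have hc' : IsCyclic ((T : Subgroup G).subgroupOf M) := by rwa [← Sylow.coe_subtype]
    exact isCyclic_of_surjective _ (subgroupOfEquivOfLe hle).surjective)
  nn := fun hn => hM (by
    rw [Sylow.coe_subtype, normal_subgroupOf_iff_le_normalizer hle] at hn
    exact hn)
  hC := fun t ht => by
    have ht' : orderOf (t : G) = 2 := by rw [orderOf_coe, ht]
    exact ⟨⟨fun a b => Subtype.ext (Subtype.ext (h.comm_of_mem_centralizer ht'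
      ((mem_centralizer_singleton.1 a.2).map M.subtype)
      ((mem_centralizer_singleton.1 b.2).map M.subtype)).eq)⟩⟩

theorem Setup.no_central_invol (h : Setup T) {z : G} (hz : z ∈ center G) : orderOf z ≠ 2 := by
  intro hz2
  apply h.nn
  refine ⟨fun a ha g => ?_⟩
  have hc : Commute g a := h.comm_of_mem_centralizer hz2 (mem_center_iff.1 hz g).symm
    (mem_center_iff.1 hz a).symm
  rw [hc.eq, mul_inv_cancel_right]
  exact ha

theorem Setup.center_odd (h : Setup T) {z : G} (hz : z ∈ center G) : Odd (orderOf z) := by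
  by_contra ho
  rw [Nat.not_odd_iff_even] at ho
  obtain ⟨i, hi⟩ := exists_prime_orderOf_dvd_card' 2 (G := Subgroup.zpowers z) (by
    rw [Nat.card_zpowers]; exact ho.two_dvd)
  exact h.no_central_invol (zpowers_le.2 hz i.2) (by rw [orderOf_coe, hi])

section Quotient

variable (Z : Subgroup G) [Z.Normal] (hZc : Z ≤ center G) (hZo : ∀ z ∈ Z, Odd (orderOf z))

local notation "π" => QuotientGroup.mk' Z

include hZo in
theorem eq_one_of_sq {z : G} (hz : z ∈ Z) (h2 : z ^ 2 = 1) : z = 1 :=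
  eq_one_of_eq_inv_of_odd (eq_inv_of_mul_eq_one_left (by rw [← sq, h2])) (hZo z hz)

include hZc hZo in
/-- An involution of `G/Z` lifts to an involution with the same centralizer. -/
theorem exists_lift {s : G ⧸ Z} (hs : orderOf s = 2) : ∃ t : G, orderOf t = 2 ∧ π t = s ∧
    ∀ c : G, Commute s (π c) → Commute t c := by
  obtain ⟨g, rfl⟩ := QuotientGroup.mk'_surjective Z s
  obtain ⟨k, m, hm, he⟩ := Nat.exists_eq_pow_mul_and_not_dvd (orderOf_pos g).ne' 2 (by norm_num)
  have hm0 : m % 2 = 1 := by omega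
  have hmap : π (g ^ m) = π g := by
    rw [map_pow, ← pow_mod_orderOf, hs, hm0, pow_one]
  have h2 : orderOf (g ^ m) = 2 := by
    refine orderOf_eq_prime (hp := ⟨Nat.prime_two⟩) ?_ fun e => by
      rw [e, map_one] at hmap; rw [← hmap, orderOf_one] at hs; omega
    have hmem : (g ^ m) ^ 2 ∈ Z := by
      rw [← QuotientGroup.eq_one_iff]
      show π ((g ^ m) ^ 2) = 1
      rw [map_pow, hmap, ← hs, pow_orderOf_eq_one]
    have hd : orderOf ((g ^ m) ^ 2) ∣ 2 ^ k := orderOf_dvd_of_pow_eq_one (by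
      rw [← pow_mul, ← pow_mul, show m * (2 * 2 ^ k) = (2 ^ k * m) * 2 by ring, pow_mul, ← he,
        pow_orderOf_eq_one, one_pow])
    obtain ⟨j, -, hj⟩ := (Nat.dvd_prime_pow Nat.prime_two).1 hd
    rcases j with _ | j
    · rwa [pow_zero, orderOf_eq_one_iff] at hj
    · have := hZo _ hmem
      rw [hj, pow_succ, Nat.odd_mul] at this
      exact absurd this.2 (by decide)
  refine ⟨g ^ m, h2, hmap, fun c hc => ?_⟩
  rw [← hmap] at hc
  obtain ⟨z, hz⟩ : ∃ z, z = c * g ^ m * c⁻¹ * (g ^ m)⁻¹ := ⟨_, rfl⟩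
  have hzZ : z ∈ Z := by
    rw [← QuotientGroup.eq_one_iff]
    show π z = 1
    rw [hz, map_mul, map_mul, map_mul, map_inv, map_inv, hc.symm.eq, mul_inv_cancel_right,
      mul_inv_cancel]
  have hzc : Commute z (g ^ m) := (mem_center_iff.1 (hZc hzZ) _).symm
  have hsq : (c * g ^ m * c⁻¹) ^ 2 = 1 := by
    rw [conj_pow, ← h2, pow_orderOf_eq_one, mul_one, mul_inv_cancel]
  rw [show c * g ^ m * c⁻¹ = z * g ^ m by rw [hz]; group, hzc.mul_pow,
    show (g ^ m) ^ 2 = 1 by rw [← h2, pow_orderOf_eq_one], mul_one] at hsq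
  have h1 : c * g ^ m * c⁻¹ * (g ^ m)⁻¹ = 1 := hz ▸ eq_one_of_sq Z hZo hzZ hsq
  exact (mul_inv_eq_iff_eq_mul.1 (mul_inv_eq_one.1 h1)).symm

variable (h : Setup T)

/-- The image of `T`. -/
noncomputable abbrev quotSylow (T : Sylow 2 G) : Sylow 2 (G ⧸ Z) :=
  T.mapSurjective (QuotientGroup.mk'_surjective Z)

theorem coe_quotSylow : (quotSylow Z T : Subgroup (G ⧸ Z)) = (T : Subgroup G).map π :=
  Sylow.coe_mapSurjective _ _

include hZo in
theorem inj_on_T {a b : G} (ha : a ∈ T) (hb : b ∈ T) (e : π a = π b) : a = b := by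
  have hmem : a⁻¹ * b ∈ Z := QuotientGroup.eq.1 e
  by_contra hne
  obtain ⟨k, hk⟩ := IsPGroup.iff_orderOf.1 T.isPGroup' ⟨a⁻¹ * b, mul_mem (inv_mem ha) hb⟩
  rw [orderOf_mk] at hk
  have ho := hZo _ hmem
  rcases k with _ | k
  · rw [pow_zero, orderOf_eq_one_iff, inv_mul_eq_one] at hk
    exact hne hk
  · rw [hk, pow_succ, Nat.odd_mul] at ho
    exact absurd ho.2 (by decide)

include hZc hZo h

theorem setup_quot : Setup (quotSylow Z T) where
  nc := fun hc => h.nc (by
    haveI : IsCyclic ((T : Subgroup G).map π) := by rwa [← coe_quotSylow]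
    exact isCyclic_of_injective ((π).subgroupMap (T : Subgroup G)) fun a b e =>
      Subtype.ext (inj_on_T Z hZo a.2 b.2 (congrArg Subtype.val e)))
  nn := fun hn => h.nn ⟨fun a ha g => by
    rw [coe_quotSylow] at hn
    obtain ⟨b, hb, e⟩ := hn.conj_mem _ (mem_map_of_mem π ha) (π g)
    rw [← map_mul, ← map_inv, ← map_mul] at e
    obtain ⟨z, hz, he⟩ : ∃ z ∈ Z, g * a * g⁻¹ = b * z :=
      ⟨b⁻¹ * (g * a * g⁻¹), QuotientGroup.eq.1 e, by group⟩
    obtain ⟨k, hk⟩ := T.isPGroup' ⟨a, ha⟩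
    obtain ⟨l, hl⟩ := T.isPGroup' ⟨b, hb⟩
    have hk' : a ^ 2 ^ k = 1 := congrArg Subtype.val hk
    have hl' : b ^ 2 ^ l = 1 := congrArg Subtype.val hl
    have hzb : Commute b z := mem_center_iff.1 (hZc hz) b
    have h1 : z ^ 2 ^ (k + l) = 1 := by
      have : (g * a * g⁻¹) ^ 2 ^ (k + l) = 1 := by
        rw [conj_pow, pow_add, pow_mul, hk', one_pow, mul_one, mul_inv_cancel]
      rw [he, hzb.mul_pow, pow_add, mul_comm, pow_mul b, hl', one_pow, one_mul] at this
      rwa [mul_comm (2 ^ l), ← pow_add] at this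
    obtain ⟨j, -, hj⟩ := (Nat.dvd_prime_pow Nat.prime_two).1 (orderOf_dvd_of_pow_eq_one h1)
    have ho := hZo z hz
    rcases j with _ | j
    · rw [pow_zero, orderOf_eq_one_iff] at hj
      rw [he, hj, mul_one]
      exact hb
    · rw [hj, pow_succ, Nat.odd_mul] at ho
      exact absurd ho.2 (by decide)⟩
  hC := fun s hs => by
    obtain ⟨t, ht, rfl, hc⟩ := exists_lift Z hZc hZo hs
    refine ⟨⟨fun a b => Subtype.ext ?_⟩⟩
    obtain ⟨x, hx⟩ := QuotientGroup.mk'_surjective Z (a : G ⧸ Z)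
    obtain ⟨y, hy⟩ := QuotientGroup.mk'_surjective Z (b : G ⧸ Z)
    show (a : G ⧸ Z) * b = b * a
    rw [← hx, ← hy]
    exact ((h.comm_of_mem_centralizer ht (hc x (hx ▸ mem_centralizer_singleton.1 a.2))
      (hc y (hy ▸ mem_centralizer_singleton.1 b.2))).map (π)).eq

theorem mem_C_of_quot {x : G}
    (hx : π x ∈ centralizer ((quotSylow Z T : Subgroup (G ⧸ Z)) : Set (G ⧸ Z))) :
    x ∈ centralizer ((T : Subgroup G) : Set G) := by
  obtain ⟨t, htT, ht, -⟩ := h.exists_central
  have hcomm : Commute (π x) (π t) :=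
    (mem_centralizer_iff.1 hx _ (by rw [SetLike.mem_coe, coe_quotSylow]; exact mem_map_of_mem π htT)).symm
  have hs : orderOf (π t) = 2 := by
    refine orderOf_eq_prime (hp := ⟨Nat.prime_two⟩) (by rw [← map_pow, ← ht, pow_orderOf_eq_one, map_one]) ?_
    intro e
    rw [← map_one π] at e
    exact t_ne ht (inj_on_T Z hZo htT (one_mem _) e)
  obtain ⟨t', -, he, hc⟩ := exists_lift Z hZc hZo hs
  have hz : t'⁻¹ * t ∈ Z := QuotientGroup.eq.1 he
  have hx' : Commute t' x := hc x hcomm.symm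
  have := hx'.mul_left (show Commute (t'⁻¹ * t) x from (mem_center_iff.1 (hZc hz) x).symm)
  rw [mul_inv_cancel_left] at this
  exact h.mem_C_of_commute ht htT this

/-- If every element of odd order of `C` lies in `Z`, the quotient has elementary abelian
involution centralizers. -/
theorem elemAbCent_quot
    (hA : ∀ a ∈ centralizer ((T : Subgroup G) : Set G), Odd (orderOf a) → a ∈ Z) :
    ElemAbCent (quotSylow Z T) := by
  have hq := setup_quot Z hZc hZo h
  have hIA : ∀ x ∈ centralizer ((quotSylow Z T : Subgroup (G ⧸ Z)) : Set (G ⧸ Z)),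
      Odd (orderOf x) → x ≠ 1 → False := by
    intro x hx hxo hx1
    obtain ⟨g, rfl⟩ := QuotientGroup.mk'_surjective Z x
    obtain ⟨τ, hτ, a, ha, hao, rfl⟩ := h.exists_decomp (mem_C_of_quot Z hZc hZo h hx)
    have ha1 : π a = 1 := (QuotientGroup.eq_one_iff a).2 (hA a ha hao)
    rw [map_mul, ha1, mul_one] at hx1 hxo
    obtain ⟨k, hk⟩ := T.isPGroup' ⟨τ, hτ⟩
    have hd : orderOf (π τ) ∣ 2 ^ k := orderOf_dvd_of_pow_eq_one (by
      rw [← map_pow, show τ ^ 2 ^ k = 1 from congrArg Subtype.val hk, map_one])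
    refine hx1 (orderOf_eq_one_iff.1 (Nat.eq_one_of_dvd_coprimes ?_ dvd_rfl hd))
    exact (Nat.coprime_two_right.2 hxo).pow_right k
  refine ⟨hq.nc, hq.nn, fun s hs => ⟨hq.hC s hs, fun c hc => ?_⟩⟩
  obtain ⟨t, htT, ht, -⟩ := hq.exists_central
  obtain ⟨g, hg⟩ := isConj_iff.1 (SE.isConj hq.stronglyEmbedded hs ht)
  have hc' : g * c * g⁻¹ ∈ centralizer ((quotSylow Z T : Subgroup (G ⧸ Z)) : Set (G ⧸ Z)) := by
    refine hq.mem_C_of_commute ht htT ?_
    rw [← hg]
    exact (mem_centralizer_singleton.1 hc).map (MulAut.conj g)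
  have := C_exponent_two hq (fun x hx hxo hx1 => (hIA x hx hxo hx1).elim) ht htT _ hc'
  rw [conj_pow, conj_eq_one_iff] at this
  exact this

end Quotient

end CfsgLib.CharsMore.AbCent
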