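import Cfsg.Agent.Lib.CharsMore.AbCent.Core
import Cfsg.Agent.Lib.Perm.ZassG.Half

/-!
# Abelian centralizers of involutions: the Zassenhaus step

If the centralizers of the elements of odd order of `C` lie in `H` then `G` acts on `G/H` as a
Zassenhaus group with kernel `C`, so `C` is an elementary abelian `2`-group. The argument follows
`Lib.Involutions.CTSimple`.
-/

set_option autoImplicit false
set_option linter.unusedSectionVars false

namespace CfsgLib.CharsMore.AbCent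

open Subgroup MulAction CfsgLib.Involutions

variable {G : Type*} [Group G] [Finite G] {T : Sylow 2 G}

omit [Finite G] in
theorem t_ne {t : G} (ht : orderOf t = 2) : t ≠ 1 := fun e => by rw [e, orderOf_one] at ht; omega

theorem Setup.mem_C_of_commute (h : Setup T) {t x : G} (ht : orderOf t = 2) (htT : t ∈ T)
    (hc : Commute t x) : x ∈ centralizer ((T : Subgroup G) : Set G) :=
  h.centralizer_eq ht htT ▸ mem_centralizer_singleton.2 hc

local notation "𝐇" => normalizer ((T : Subgroup G) : Set G)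
local notation "𝐂" => centralizer ((T : Subgroup G) : Set G)
local notation "x₀" => (QuotientGroup.mk (1 : G) : G ⧸ 𝐇)

section Free

variable (hS : Setup T)
  (hI : ∀ a ∈ centralizer ((T : Subgroup G) : Set G), Odd (orderOf a) → a ≠ 1 →
    centralizer ({a} : Set G) ≤ normalizer ((T : Subgroup G) : Set G))
  {t : G} (ht : orderOf t = 2) (htT : t ∈ T)
include hS hI ht htT

/-- There is no regular normal subgroup. -/
theorem not_regular {N : Subgroup G} (hN : N.Normal) (hNt : IsPretransitive N (G ⧸ 𝐇)) :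
    ∃ a : G ⧸ 𝐇, stabilizer N a ≠ ⊥ := by
  by_contra hall
  push Not at hall
  have hfree : ∀ n ∈ N, n • x₀ = x₀ → n = 1 := fun n hn e => by
    have h1 : (⟨n, hn⟩ : N) ∈ stabilizer N x₀ := e
    rw [hall x₀, mem_bot] at h1
    exact congrArg Subtype.val h1
  -- every involution of `T` inverts `N`
  have hinv : ∀ s ∈ (T : Subgroup G), orderOf s = 2 → ∀ n ∈ N, s * n * s⁻¹ = n⁻¹ := by
    intro s hsT hs
    let σ : N → N := fun n => ⟨s * n * s⁻¹, hN.conj_mem n n.2 s⟩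
    have hσinj : Function.Injective fun n : N => (⟨(n : G)⁻¹ * (s * n * s⁻¹),
        mul_mem (inv_mem n.2) (hN.conj_mem n n.2 s)⟩ : N) := by
      intro a b e
      have e' : (a : G)⁻¹ * (s * a * s⁻¹) = (b : G)⁻¹ * (s * b * s⁻¹) := congrArg Subtype.val e
      have hfix : s * ((b : G) * (a : G)⁻¹) * s⁻¹ = (b : G) * (a : G)⁻¹ := by
        calc s * ((b : G) * (a : G)⁻¹) * s⁻¹ = (s * b * s⁻¹) * (s * a * s⁻¹)⁻¹ := by group
          _ = (b : G) * ((b : G)⁻¹ * (s * b * s⁻¹)) * ((a : G)⁻¹ * (s * a * s⁻¹))⁻¹ * (a : G)⁻¹ := by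
            group
          _ = (b : G) * (a : G)⁻¹ := by rw [← e', mul_inv_cancel_right]
      have hC : (b : G) * (a : G)⁻¹ ∈ 𝐂 := hS.mem_C_of_commute hs hsT
        (mul_inv_eq_iff_eq_mul.1 hfix)
      exact Subtype.ext (mul_inv_eq_one.1 (hfree _ (mul_mem b.2 (inv_mem a.2))
        (Setup.mem_H_iff.1 (hS.C_le_H hC)))).symm
    intro n hn
    obtain ⟨m, hm⟩ := (Finite.injective_iff_surjective.1 hσinj) ⟨n, hn⟩
    have hm' : (m : G)⁻¹ * (s * m * s⁻¹) = n := congrArg Subtype.val hm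
    rw [← hm', invol_inv hs]
    simp only [mul_inv_rev, inv_inv, invol_inv hs, mul_assoc]
    simp only [← mul_assoc s s, invol_mul_self hs, one_mul, mul_one]
  obtain ⟨⟨s, hs, hsH⟩, hst⟩ : ∃ s : {s : G // orderOf s = 2 ∧ s ∈ 𝐇}, (s : G) ≠ t := by
    haveI : Nontrivial {s : G // orderOf s = 2 ∧ s ∈ 𝐇} :=
      Finite.one_lt_card_iff_nontrivial.1 hS.two_le_invol
    obtain ⟨s, hs⟩ := exists_ne (⟨t, ht, le_normalizer htT⟩ : {s : G // orderOf s = 2 ∧ s ∈ 𝐇})
    exact ⟨s, fun e => hs (Subtype.ext e)⟩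
  have hsT := hS.invol_mem hs hsH
  have hst2 : orderOf (s * t) = 2 := orderOf_eq_prime
    (by rw [(hS.comm_of_mem hsT htT).mul_pow, sq, sq, invol_mul_self hs, invol_mul_self ht, one_mul])
    (fun e => hst ((eq_inv_of_mul_eq_one_left e).trans (invol_inv ht)))
  obtain ⟨u, huN, -⟩ := SE.exists_invol_not_mem hS.stronglyEmbedded
  obtain ⟨⟨n, hn⟩, hne⟩ := hNt.exists_smul_eq x₀ (u • x₀)
  have hn1 : n = 1 := by
    refine hfree n hn (Setup.mem_H_iff.1 (hS.C_le_H (hS.mem_C_of_commute hst2 (mul_mem hsT htT) ?_)))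
    refine mul_inv_eq_iff_eq_mul.1 ?_
    calc s * t * n * (s * t)⁻¹ = s * (t * n * t⁻¹) * s⁻¹ := by group
      _ = n := by rw [hinv t htT ht n hn, hinv s hsT hs _ (inv_mem hn), inv_inv]
  subst hn1
  exact huN (Setup.mem_H_iff.2 (hne.symm.trans (one_smul G x₀)))

/-- The stabiliser of two cosets: order, transitivity, inversion. -/
theorem pair_facts {z : G ⧸ 𝐇} (hz : x₀ ≠ z) :
    Nat.card (stabilizer G x₀ ⊓ stabilizer G z : Subgroup G) =
        Nat.card {s : G // orderOf s = 2 ∧ s ∈ 𝐇} ∧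
      (∀ s : G, orderOf s = 2 → s ∈ 𝐇 →
        ∃ d ∈ stabilizer G x₀ ⊓ stabilizer G z, d * t * d⁻¹ = s) ∧
      ∀ v : G, orderOf v = 2 → v • x₀ = z →
        ∀ d ∈ stabilizer G x₀ ⊓ stabilizer G z, v * d * v⁻¹ = d⁻¹ := by
  set D := stabilizer G x₀ ⊓ stabilizer G z
  have hDN : ∀ d ∈ D, d ∈ 𝐇 := fun d hd => Setup.mem_H_iff.2 hd.1
  let f : D → {s : G // orderOf s = 2 ∧ s ∈ 𝐇} := fun d => ⟨d * t * (d : G)⁻¹,
    conj_invol _ ht, mul_mem (mul_mem (hDN d d.2)
      (le_normalizer htT)) (inv_mem (hDN d d.2))⟩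
  have hf : Function.Injective f := by
    intro d e h
    have h' : (d : G) * t * (d : G)⁻¹ = e * t * (e : G)⁻¹ := congrArg Subtype.val h
    have hA : (e : G)⁻¹ * d ∈ (𝐂) := hS.mem_C_of_commute ht htT (Commute.symm (by
      show (e : G)⁻¹ * d * t = t * ((e : G)⁻¹ * d)
      calc (e : G)⁻¹ * d * t = (e : G)⁻¹ * (d * t * (d : G)⁻¹) * d := by group
        _ = t * ((e : G)⁻¹ * d) := by rw [h']; group))
    exact Subtype.ext (inv_mul_eq_one.1
      (hS.C_free hI hA hz (mul_mem (inv_mem e.2) d.2 : (e : G)⁻¹ * d ∈ D).2)).symm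
  obtain ⟨⟨v₀, hv₀, hv₀z⟩⟩ : Nonempty {i : G // orderOf i = 2 ∧ i • x₀ = z} := by
    refine (Nat.card_pos_iff.1 ?_).1
    rw [hS.card_carriers hz]
    haveI : Nonempty {i : G // orderOf i = 2 ∧ i ∈ 𝐇} :=
      ⟨⟨t, ht, le_normalizer htT⟩⟩
    exact Nat.card_pos
  have hle := Nat.card_le_card_of_injective f hf
  have hge : ∀ v, orderOf v = 2 → v • x₀ = z →
      ∃ g : {i : G // orderOf i = 2 ∧ i • x₀ = z} → D, Function.Injective g ∧
        ∀ i, ((g i : D) : G) = i * v := by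
    intro v hv hvz
    have hswap : ∀ i : G, orderOf i = 2 → i • x₀ = z → i • z = x₀ := fun i hi hiz => by
      rw [← hiz, ← mul_smul, invol_mul_self hi, one_smul]
    refine ⟨fun i => ⟨i * v, ⟨?_, ?_⟩⟩, fun i j h => Subtype.ext
      (mul_right_cancel (congrArg Subtype.val h)), fun i => rfl⟩
    · show ((i : G) * v) • x₀ = x₀
      rw [mul_smul, hvz, hswap _ i.2.1 i.2.2]
    · show ((i : G) * v) • z = z
      rw [mul_smul, hswap v hv hvz, i.2.2]
  have hcard : Nat.card D = Nat.card {s : G // orderOf s = 2 ∧ s ∈ 𝐇} := by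
    refine le_antisymm hle ?_
    rw [← hS.card_carriers hz]
    obtain ⟨g, hg, -⟩ := hge v₀ hv₀ hv₀z
    exact Nat.card_le_card_of_injective g hg
  refine ⟨hcard, fun s hs' hsN => ?_, fun v hv hvz d hd => ?_⟩
  · obtain ⟨d, hd⟩ := ((Nat.bijective_iff_injective_and_card f).2 ⟨hf, hcard⟩).2 ⟨s, hs', hsN⟩
    exact ⟨d, d.2, congrArg Subtype.val hd⟩
  · obtain ⟨g, hg, hg'⟩ := hge v hv hvz
    obtain ⟨i, hi⟩ := ((Nat.bijective_iff_injective_and_card g).2
      ⟨hg, (hS.card_carriers hz).trans hcard.symm⟩).2 ⟨d, hd⟩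
    have hd' : d = (i : G) * v := by rw [← hg', hi]
    rw [hd', mul_inv_rev, invol_inv hv, invol_inv i.2.1, mul_assoc v, mul_assoc (i : G),
      invol_mul_self hv, mul_one]

/-- An involution swapping two cosets inverts their stabiliser. -/
theorem inverts {x y : G ⧸ 𝐇} (hxy : x ≠ y) {v : G} (hv : orderOf v = 2) (hvx : v • x = y)
    {d : G} (hdx : d • x = x) (hdy : d • y = y) : v * d * v⁻¹ = d⁻¹ := by
  obtain ⟨g, rfl⟩ := QuotientGroup.mk_surjective x
  have hg : g⁻¹ • (g : G ⧸ 𝐇) = x₀ := by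
    rw [MulAction.Quotient.smul_mk, smul_eq_mul, inv_mul_cancel]
  have hg' : g • x₀ = (g : G ⧸ 𝐇) := by
    rw [MulAction.Quotient.smul_mk, smul_eq_mul, mul_one]
  have hne : x₀ ≠ g⁻¹ • y := fun e => hxy (by rw [← hg', e, smul_inv_smul])
  have hv' : orderOf (g⁻¹ * v * g) = 2 := by
    have := conj_invol g⁻¹ hv
    rwa [inv_inv] at this
  have h := (pair_facts hS hI ht htT hne).2.2 _ hv'
    (by rw [mul_smul, mul_smul, hg', hvx]) (g⁻¹ * d * g)
    ⟨by show (g⁻¹ * d * g) • x₀ = x₀; rw [mul_smul, mul_smul, hg', hdx, hg],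
      by show (g⁻¹ * d * g) • g⁻¹ • y = g⁻¹ • y; rw [mul_smul, mul_smul, smul_inv_smul, hdy]⟩
  have h2 := congrArg (fun w => g * w * g⁻¹) h
  simpa [mul_assoc] using h2

/-- `H = (𝐂) D`. -/
theorem exists_pair_factor {h : G} (hh : h ∈ 𝐇) {z : G ⧸ 𝐇} (hz : x₀ ≠ z) :
    ∃ d ∈ stabilizer G x₀ ⊓ stabilizer G z, d⁻¹ * h ∈ (𝐂) := by
  obtain ⟨d, hd, e⟩ := (pair_facts hS hI ht htT hz).2.1 (h * t * h⁻¹) (conj_invol h ht)
    (mul_mem (mul_mem hh (le_normalizer htT)) (inv_mem hh))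
  refine ⟨d, hd, hS.mem_C_of_commute ht htT (Commute.symm ?_)⟩
  show d⁻¹ * h * t = t * (d⁻¹ * h)
  calc d⁻¹ * h * t = d⁻¹ * (h * t * h⁻¹) * h := by group
    _ = t * (d⁻¹ * h) := by rw [← e]; group

/-- Only the identity fixes three cosets. -/
theorem eq_one_of_three {d : G} {z w : G ⧸ 𝐇} (hz : x₀ ≠ z) (hw : x₀ ≠ w) (hzw : z ≠ w)
    (h0 : d • x₀ = x₀) (h1 : d • z = z) (h2 : d • w = w) : d = 1 := by
  have hSE := hS.stronglyEmbedded
  by_contra hd1
  have hpos : ∀ {x y : G ⧸ 𝐇}, x ≠ y → ∃ v : G, orderOf v = 2 ∧ v • x = y := by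
    intro x y hxy
    obtain ⟨a, rfl⟩ := QuotientGroup.mk_surjective x
    have h3 := SE.card_carry hSE (conj_invol a ht) hxy (SE.smul_mk_eq_iff.2
      (by simpa [mul_assoc] using le_normalizer htT))
    rw [SE.card_fixing] at h3
    haveI : Nonempty {i : G // orderOf i = 2 ∧ i ∈ 𝐇} :=
      ⟨⟨t, ht, le_normalizer htT⟩⟩
    have h4 : 0 < Nat.card {i : G // orderOf i = 2 ∧ i • (a : G ⧸ 𝐇) = y} := h3 ▸ Nat.card_pos
    obtain ⟨⟨v, hv⟩⟩ := (Nat.card_pos_iff.1 h4).1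
    exact ⟨v, hv⟩
  obtain ⟨u, hu, hu1⟩ := hpos hz
  obtain ⟨v, hv, hv1⟩ := hpos hzw
  obtain ⟨r, hr, hr1⟩ := hpos hw
  have hr2 : r • w = x₀ := by rw [← hr1, ← mul_smul, invol_mul_self hr, one_smul]
  set k := r * v * u with hk
  have hkH : k ∈ 𝐇 := Setup.mem_H_iff.2 (by rw [hk, mul_smul, mul_smul, hu1, hv1, hr2])
  have hkd : k * d * k⁻¹ = d⁻¹ := by
    have e1 := inverts hS hI ht htT hz hu hu1 h0 h1
    have e2 := inverts hS hI ht htT hzw hv hv1 h1 h2
    have e3 := inverts hS hI ht htT hw hr hr1 h0 h2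
    have e2' : v * d⁻¹ * v⁻¹ = d := by rw [← inv_inv d, inv_inv d⁻¹]; simpa [mul_assoc] using congrArg (·⁻¹) e2
    calc k * d * k⁻¹ = r * (v * (u * d * u⁻¹) * v⁻¹) * r⁻¹ := by rw [hk]; group
      _ = d⁻¹ := by rw [e1, e2', e3]
  obtain ⟨f, hf, hfa⟩ := exists_pair_factor hS hI ht htT hkH hz
  set a := f⁻¹ * k with ha
  have hD := (pair_facts hS hI ht htT hz).2.2 u hu hu1
  have hfd : f⁻¹ * d⁻¹ * f = d⁻¹ := by
    -- the stabiliser of two cosets is inverted, hence abelian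
    have hdd : d⁻¹ ∈ stabilizer G x₀ ⊓ stabilizer G z := inv_mem ⟨h0, h1⟩
    have e : (u * d⁻¹ * u⁻¹) * (u * f * u⁻¹) = u * (d⁻¹ * f) * u⁻¹ := by group
    rw [hD _ hdd, hD _ hf, hD _ (mul_mem hdd hf)] at e
    have e' : f * d⁻¹ = d⁻¹ * f := by
      have := congrArg (·⁻¹) e
      simpa [mul_inv_rev] using this
    rw [mul_assoc, ← e', inv_mul_cancel_left]
  have had : a * d * a⁻¹ = d⁻¹ := by
    calc a * d * a⁻¹ = f⁻¹ * (k * d * k⁻¹) * f := by rw [ha]; group
      _ = d⁻¹ := by rw [hkd, hfd]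
  have hdH : d ∈ 𝐇 := Setup.mem_H_iff.2 h0
  have hsq : d⁻¹ * d⁻¹ = 1 := by
    refine hS.C_free hI ?_ hz ?_
    · rw [show d⁻¹ * d⁻¹ = a * (d * a⁻¹ * d⁻¹) by
        rw [show a * (d * a⁻¹ * d⁻¹) = a * d * a⁻¹ * d⁻¹ by group, had]]
      exact mul_mem hfa (hS.conj_mem_C hdH (inv_mem hfa))
    · rw [mul_smul, inv_smul_eq_iff.2 h1.symm, inv_smul_eq_iff.2 h1.symm]
  obtain ⟨e, he⟩ := SE.odd_of_two_fixed hSE hz h0 h1
  refine hd1 ?_
  have h22 : d ^ 2 = 1 := by rw [pow_two]; simpa using congrArg (·⁻¹) hsq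
  have := pow_orderOf_eq_one d
  rwa [he, pow_add, pow_mul, h22, one_pow, one_mul, pow_one] at this

/-- The centraliser of `t` is transitive on the cosets other than `H`. -/
theorem C_transitive {z w : G ⧸ 𝐇} (hz : x₀ ≠ z) (hw : x₀ ≠ w) : ∃ a ∈ (𝐂), a • z = w := by
  classical
  set D := stabilizer G x₀ ⊓ stabilizer G z
  have hAH : 𝐂 ≤ 𝐇 := hS.C_le_H
  have hDH : ∀ d ∈ D, d ∈ 𝐇 := fun d hd => Setup.mem_H_iff.2 hd.1
  obtain ⟨hcard, -, -⟩ := pair_facts hS hI ht htT hz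
  have ha0 : ∀ a ∈ (𝐂), a • x₀ = x₀ := fun a ha => Setup.mem_H_iff.1 (hAH ha)
  -- `H` is covered by `A` and the conjugates of `D`
  let φ : (↥(𝐂) ⊕ ↥(𝐂) × {d : D // d ≠ 1}) → 𝐇 := Sum.elim (fun a => ⟨a, hAH a.2⟩)
    (fun p => ⟨(p.1 : G) * (p.2.1 : G) * (p.1 : G)⁻¹,
      mul_mem (mul_mem (hAH p.1.2) (hDH _ p.2.1.2)) (inv_mem (hAH p.1.2))⟩)
  have hne : ∀ (p : ↥(𝐂) × {d : D // d ≠ 1}), ((φ (Sum.inr p) : 𝐇) : G) ∉ (𝐂) := by
    rintro ⟨a, ⟨d, hd⟩, hd1⟩ h
    refine hd1 (Subtype.ext ?_)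
    have h' : (a : G) * d * (a : G)⁻¹ ∈ (𝐂) := h
    have hdA : d ∈ (𝐂) := by
      have := mul_mem (mul_mem (inv_mem a.2) h') a.2
      rwa [show (a : G)⁻¹ * ((a : G) * d * (a : G)⁻¹) * a = d by group] at this
    exact hS.C_free hI hdA hz hd.2
  have hφ : Function.Injective φ := by
    rintro (a | p) (b | q) h
    · exact congrArg Sum.inl (Subtype.ext (congrArg Subtype.val h :))
    · exact absurd (by rw [← h]; exact a.2) (hne q)
    · exact absurd (by rw [h]; exact b.2) (hne p)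
    · obtain ⟨a, ⟨d, hd⟩, hd1⟩ := p
      obtain ⟨b, ⟨e, he⟩, he1⟩ := q
      have h' : (a : G) * d * (a : G)⁻¹ = b * e * (b : G)⁻¹ := congrArg Subtype.val h
      set c := (a : G)⁻¹ * b with hc
      have hcA : c ∈ (𝐂) := mul_mem (inv_mem a.2) b.2
      have hde : d = c * e * c⁻¹ := by
        calc d = (a : G)⁻¹ * ((a : G) * d * (a : G)⁻¹) * a := by group
          _ = _ := by rw [h', hc]; group
      have hcz : c • z = z := by
        by_contra hne'
        refine hd1 (Subtype.ext (eq_one_of_three hS hI ht htT hz ?_ (Ne.symm hne') hd.1 hd.2 ?_))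
        · intro e'
          have := congrArg (c⁻¹ • ·) e'
          simp only [inv_smul_smul, inv_smul_eq_iff.2 (ha0 c hcA).symm] at this
          exact hz this
        · show d • c • z = c • z
          rw [hde, mul_smul, mul_smul, inv_smul_smul]
          congr 1
          exact he.2
      have hc1 := hS.C_free hI hcA hz hcz
      rw [hc1, one_mul, inv_one, mul_one] at hde
      subst hde
      rw [hc, inv_mul_eq_one] at hc1
      obtain rfl : a = b := Subtype.ext hc1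
      rfl
  have hHcard : Nat.card (𝐇) = Nat.card ↥(𝐂) * Nat.card D := by
    have hb : Function.Bijective fun p : D × ↥(𝐂) =>
        (⟨(p.1 : G) * p.2, mul_mem (hDH _ p.1.2) (hAH p.2.2)⟩ : 𝐇) := by
      refine ⟨fun p q h => ?_, fun h => ?_⟩
      · have h' : (p.1 : G) * p.2 = q.1 * q.2 := congrArg Subtype.val h
        have h1 : (q.1 : G)⁻¹ * p.1 = q.2 * (p.2 : G)⁻¹ := by
          rw [inv_mul_eq_iff_eq_mul, ← mul_assoc, ← h', mul_inv_cancel_right]
        have h2 : (q.1 : G)⁻¹ * p.1 = 1 := hS.C_free hI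
          (h1 ▸ mul_mem q.2.2 (inv_mem p.2.2)) hz (mul_mem (inv_mem q.1.2) p.1.2).2
        refine Prod.ext (Subtype.ext (inv_mul_eq_one.1 h2).symm) (Subtype.ext ?_)
        rw [h2] at h1
        exact (mul_inv_eq_one.1 h1.symm).symm
      · obtain ⟨d, hd, hda⟩ := exists_pair_factor hS hI ht htT h.2 hz
        exact ⟨(⟨d, hd⟩, ⟨_, hda⟩), Subtype.ext (mul_inv_cancel_left _ _)⟩
    rw [← Nat.card_eq_of_bijective _ hb, Nat.card_prod, mul_comm]
  have hsurj : Function.Surjective φ := ((Nat.bijective_iff_injective_and_card φ).2 ⟨hφ, by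
    have h1 : Nat.card {d : D // d ≠ 1} + 1 = Nat.card D := by
      haveI := Fintype.ofFinite D
      rw [Nat.card_eq_fintype_card, Fintype.card_subtype_compl, Fintype.card_subtype_eq,
        Nat.card_eq_fintype_card, Nat.sub_add_cancel Fintype.card_pos]
    rw [Nat.card_sum, Nat.card_prod, hHcard, ← h1]
    ring⟩).2
  -- a non-identity element fixing `x₀` and `w`
  obtain ⟨hcw, -, -⟩ := pair_facts hS hI ht htT hw
  haveI : Nontrivial (stabilizer G x₀ ⊓ stabilizer G w : Subgroup G) :=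
    Finite.one_lt_card_iff_nontrivial.1 (by rw [hcw]; exact hS.two_le_invol)
  obtain ⟨⟨d, hd⟩, hd1⟩ := exists_ne (1 : (stabilizer G x₀ ⊓ stabilizer G w : Subgroup G))
  have hd1' : d ≠ 1 := fun e => hd1 (Subtype.ext e)
  obtain ⟨x, hx⟩ := hsurj ⟨d, Setup.mem_H_iff.2 hd.1⟩
  rcases x with a | ⟨a, ⟨e, he⟩, he1⟩
  · have : (a : G) = d := congrArg Subtype.val hx
    exact absurd (hS.C_free hI (this ▸ a.2) hw hd.2) hd1'
  · have he' : (a : G) * e * (a : G)⁻¹ = d := congrArg Subtype.val hx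
    refine ⟨a, a.2, ?_⟩
    by_contra hne'
    refine hd1' (eq_one_of_three hS hI ht htT hw ?_ (Ne.symm hne') hd.1 hd.2 ?_)
    · intro h
      have := congrArg ((a : G)⁻¹ • ·) h
      simp only [inv_smul_smul, inv_smul_eq_iff.2 (ha0 a a.2).symm] at this
      exact hz this
    · rw [← he', mul_smul, mul_smul, inv_smul_smul]
      congr 1
      exact he.2

/-- The centraliser of an involution is an elementary abelian 2-group. -/
theorem C_exponent_two : ∀ a ∈ (𝐂), a ^ 2 = 1 := by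
  classical
  have hSE := hS.stronglyEmbedded
  obtain ⟨u, huN, -⟩ := SE.exists_invol_not_mem hSE
  set z : G ⧸ 𝐇 := u • x₀ with hz'
  have hz : x₀ ≠ z := fun e => huN (Setup.mem_H_iff.2 e.symm)
  have hAH : 𝐂 ≤ 𝐇 := hS.C_le_H
  have h3 : ∀ g : G, ∀ a b c : G ⧸ 𝐇, a ≠ b → b ≠ c → a ≠ c →
      g • a = a → g • b = b → g • c = c → g = 1 := by
    intro g a b c hab hbc hac ha hb hc
    obtain ⟨k, rfl⟩ := QuotientGroup.mk_surjective a
    have hk : k • x₀ = (k : G ⧸ 𝐇) := by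
      rw [MulAction.Quotient.smul_mk, smul_eq_mul, mul_one]
    have key : ∀ {y : G ⧸ 𝐇}, g • y = y → (k⁻¹ * g * k) • (k⁻¹ • y) = k⁻¹ • y := fun hy => by
      rw [mul_smul, mul_smul, smul_inv_smul, hy]
    have := eq_one_of_three hS hI ht htT (d := k⁻¹ * g * k) (z := k⁻¹ • b) (w := k⁻¹ • c)
      (fun e => hab (by rw [← hk, e, smul_inv_smul])) (fun e => hac (by rw [← hk, e, smul_inv_smul]))
      (fun e => hbc ((smul_left_cancel_iff _).1 e))
      (by rw [mul_smul, mul_smul, hk, ha, ← hk, inv_smul_smul]) (key hb) (key hc)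
    rw [← conj_eq_one_iff (a := k⁻¹)]
    simpa using this
  obtain ⟨t₀, ht₀T, ht₀, -⟩ := hS.exists_central
  have hfaith : FaithfulSMul G (G ⧸ 𝐇) := by
    refine ⟨fun {g k} hgh => ?_⟩
    have hall : ∀ y : G ⧸ 𝐇, (k⁻¹ * g) • y = y := fun y => by
      rw [mul_smul, hgh y, inv_smul_smul]
    have htz : t • z ≠ z := fun e => t_ne ht (hS.C_free hI (hS.le_C htT) hz e)
    have htx : t • z ≠ x₀ := fun e => hz (smul_left_cancel t
      (show t • x₀ = t • z by rw [e, Setup.mem_H_iff.1 (le_normalizer htT)]))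
    exact (inv_mul_eq_one.1 (h3 _ x₀ z (t • z) hz htz.symm htx.symm (hall _) (hall _) (hall _))).symm
  have htwo : IsMultiplyPretransitive G (G ⧸ 𝐇) 2 := by
    rw [is_two_pretransitive_iff]
    intro a b c d hab hcd
    obtain ⟨k, hk⟩ := exists_smul_eq G a x₀
    obtain ⟨l, hl⟩ := exists_smul_eq G c x₀
    obtain ⟨e, heA, he⟩ := C_transitive hS hI ht htT (z := k • b) (w := l • d)
      (fun h => hab (smul_left_cancel k (hk.trans h))) (fun h => hcd (smul_left_cancel l (hl.trans h)))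
    refine ⟨l⁻¹ * e * k, ?_, ?_⟩
    · rw [mul_smul, mul_smul, hk, Setup.mem_H_iff.1 (hAH heA), inv_smul_eq_iff, hl]
    · rw [mul_smul, mul_smul, he, inv_smul_smul]
  obtain ⟨hcard, -, -⟩ := pair_facts hS hI ht htT hz
  have hm2 := hS.two_le_invol
  have hZ : Cfsg.IsZassenhausGroup G (G ⧸ 𝐇) := by
    refine ⟨hfaith, htwo, h3, ?_, fun N hN hNt => ?_⟩
    · haveI : Nontrivial (stabilizer G x₀ ⊓ stabilizer G z : Subgroup G) :=
        Finite.one_lt_card_iff_nontrivial.1 (by rw [hcard]; omega)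
      obtain ⟨⟨d, hd⟩, hd1⟩ := exists_ne (1 : (stabilizer G x₀ ⊓ stabilizer G z : Subgroup G))
      exact ⟨d, fun e => hd1 (Subtype.ext e), x₀, z, hz, hd.1, hd.2⟩
    · exact not_regular hS hI ht htT hN hNt
  have hK : Perm.ZassG.IsKernel x₀ (𝐂) := ⟨fun a ha => Setup.mem_H_iff.1 (hAH ha),
    fun g hg a ha => hS.conj_mem_C (Setup.mem_H_iff.2 hg) ha,
    fun y w hy hw => by
      obtain ⟨a, ha, e⟩ := C_transitive hS hI ht htT (Ne.symm hy) (Ne.symm hw)
      refine ⟨⟨a, ha⟩, e, fun b hb => Subtype.ext ?_⟩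
      have hb' : (b : G) • y = w := hb
      have := hS.C_free hI (mul_mem (inv_mem ha) b.2) (Ne.symm hy)
        (by rw [mul_smul, hb', ← e, inv_smul_smul])
      exact (inv_mul_eq_one.1 this).symm⟩
  have hpair : Nat.card (Perm.ZassG.pairStab G x₀ z) =
      Nat.card {s : G // orderOf s = 2 ∧ s ∈ 𝐇} := hcard
  have hAinv : Nat.card {s : G // orderOf s = 2 ∧ s ∈ 𝐇} =
      Nat.card {a : ↥(𝐂) // orderOf a = 2} :=
    Nat.card_congr
      { toFun := fun s => ⟨⟨s, hS.le_C (hS.invol_mem s.2.1 s.2.2)⟩, by rw [← orderOf_coe]; exact s.2.1⟩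
        invFun := fun a => ⟨a.1, by rw [orderOf_coe]; exact a.2, hAH a.1.2⟩
        left_inv := fun s => rfl
        right_inv := fun a => rfl }
  rcases Perm.ZassG.card_cases hZ hz hK (fun a b => Subtype.ext (hS.C_comm a.2 b.2)) with e | e
  · rw [hpair, hAinv] at e
    intro a ha
    by_contra hne
    have h1 : Nat.card {a : ↥(𝐂) // orderOf a = 2} + 2 ≤ Nat.card ↥(𝐂) := by
      haveI := Fintype.ofFinite ↥(𝐂)
      rw [Nat.card_eq_fintype_card, Nat.card_eq_fintype_card (α := ↥(𝐂)), Fintype.card_subtype,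
        ← Finset.card_univ]
      have hsub : (Finset.univ.filter fun b : ↥(𝐂) => orderOf b = 2) ⊆
          (Finset.univ.erase (1 : ↥(𝐂))).erase ⟨a, ha⟩ := by
        intro b hb
        rw [Finset.mem_filter] at hb
        refine Finset.mem_erase.2 ⟨fun e => hne ?_, Finset.mem_erase.2 ⟨fun e => ?_, hb.1⟩⟩
        · have h2 : orderOf a = 2 := by rw [← hb.2, e, orderOf_mk]
          rw [← h2, pow_orderOf_eq_one]
        · rw [e, orderOf_one] at hb; omega
      have hne1 : (⟨a, ha⟩ : ↥(𝐂)) ≠ 1 := fun e => hne (by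
        rw [show a = 1 from congrArg Subtype.val e, one_pow])
      have hc1 : ((Finset.univ.erase (1 : ↥(𝐂))).erase ⟨a, ha⟩).card + 2 = (Finset.univ : Finset ↥(𝐂)).card := by
        rw [Finset.card_erase_of_mem (Finset.mem_erase.2 ⟨hne1, Finset.mem_univ _⟩),
          Finset.card_erase_of_mem (Finset.mem_univ _)]
        have : 1 < (Finset.univ : Finset ↥(𝐂)).card :=
          Finset.one_lt_card.2 ⟨_, Finset.mem_univ _, _, Finset.mem_univ _, hne1⟩
        omega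
      have := Finset.card_le_card hsub
      omega
    omega
  · obtain ⟨k, hk⟩ := (even_card_iff (𝐂)).2 ⟨t, hS.le_C htT, ht⟩
    omega

end Free

end CfsgLib.CharsMore.AbCent
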